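import Groth.Agent.TameLib.Laws

/-!
# The tame symbol of a finite extension
-/

set_option autoImplicit false
set_option linter.style.haveILetI false
set_option linter.unusedSectionVars false
universe u

open IsLocalRing nonZeroDivisors

noncomputable section

namespace Groth.Agent.TameLib

theorem ord_ringEquiv {R S : Type u} [CommRing R] [CommRing S] (φ : R ≃+* S) (x : R) :
    Ring.ord S (φ x) = Ring.ord R x := by
  letI := φ.toRingHom.toAlgebra
  let e₀ : (R ⧸ Ideal.span {x}) ≃+* (S ⧸ Ideal.span {φ x}) :=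
    Ideal.quotientEquiv _ _ φ (by rw [Ideal.map_span, Set.image_singleton]; rfl)
  let e : (R ⧸ Ideal.span {x}) ≃ₗ[R] (S ⧸ Ideal.span {φ x}) :=
    { e₀ with
      map_smul' := fun r z => by
        obtain ⟨y, rfl⟩ := Ideal.Quotient.mk_surjective z
        show Ideal.Quotient.mk _ (φ (r * y)) = Ideal.Quotient.mk _ (φ r * φ y)
        rw [map_mul] }
  unfold Ring.ord
  rw [e.length_eq]
  exact (Module.length_eq_of_surjective (R := S) φ.surjective).symm

section transport

variable {A : Type u} [CommRing A] [IsLocalRing A] {B : Type u} [CommRing B] [Algebra A B]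
  [Module.Finite A B] {R : Type u} [CommRing R] [IsLocalRing R] [Algebra A R]
  [IsLocalHom (algebraMap A R)] [Module.Finite (ResidueField A) (ResidueField R)]
  {C : Type u} [CommRing C] [Algebra R C] [Module.Finite R C] [Algebra A C] [IsScalarTower A R C]

theorem norm_normF (n : MaximalSpectrum B) (Q : MaximalSpectrum C) (φ : Loc n ≃+* Loc Q)
    (hφ : ∀ a : A, φ (algebraMap A (Loc n) a) = algebraMap R (Loc Q) (algebraMap A R a))
    (u v : (Loc n)ˣ) (e f : ℕ) :
    Algebra.norm (ResidueField A)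
        (normF R Q (Units.map (φ : Loc n →* Loc Q) u) (Units.map (φ : Loc n →* Loc Q) v) e f) =
      normF A n u v e f := by
  haveI := isLocalHom_loc A n
  haveI := isLocalHom_loc R Q
  haveI := finite_residueField R Q
  haveI : IsScalarTower A R (Loc Q) := IsScalarTower.to₁₂₄ A R C (Loc Q)
  haveI : IsLocalHom (algebraMap A (Loc Q)) := by
    rw [IsScalarTower.algebraMap_eq A R (Loc Q)]; infer_instance
  let κ := ResidueField A
  let F := ResidueField R
  let E := ResidueField (Loc Q)
  haveI : IsScalarTower κ F E := IsScalarTower.of_algebraMap_eq fun x => by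
    obtain ⟨a, rfl⟩ := residue_surjective x
    simp only [κ, F, E, ResidueField.algebraMap_residue, ← IsScalarTower.algebraMap_apply]
  let ψ : ResidueField (Loc n) ≃ₐ[κ] E :=
    AlgEquiv.ofRingEquiv (f := ResidueField.mapEquiv φ) (fun x => by
      obtain ⟨a, rfl⟩ := residue_surjective x
      simp only [κ, E, ResidueField.algebraMap_residue]
      rw [IsScalarTower.algebraMap_apply A R (Loc Q)]
      exact congrArg (residue (Loc Q)) (hφ a))
  rw [normF, normF, Algebra.norm_norm, show zed (Units.map (φ : Loc n →* Loc Q) u)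
      (Units.map (φ : Loc n →* Loc Q) v) e f = ψ (zed u v e f) from ?_]
  · exact Algebra.norm_eq_of_algEquiv ψ _
  · rw [zed_eq, zed_eq, map_mul, map_mul, map_pow, map_pow, map_inv₀, map_pow, map_neg, map_one]
    rfl

end transport

theorem map_mem_nonZeroDivisors_of_equiv {R S : Type u} [CommRing R] [CommRing S] (φ : R ≃+* S) {x : R}
    (hx : x ∈ R⁰) : φ x ∈ S⁰ :=
  mem_nonZeroDivisors_iff_right.2 fun y hy => φ.symm.injective (by
    rw [map_zero]
    exact mem_nonZeroDivisors_iff_right.1 hx _ (by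
      rw [← φ.symm_apply_apply x, ← map_mul, hy, map_zero]))

theorem finite_maximalSpectrum' {R : Type u} [CommRing R] [IsLocalRing R] [IsNoetherianRing R] {C : Type u}
    [CommRing C] [Algebra R C] (hC : CycAlg.IsFinExt R C (maximalIdeal R)) : Finite (MaximalSpectrum C) :=
  haveI := hC.2.1
  finite_maximalSpectrum R

theorem exists_regular {A : Type u} [CommRing A] [IsLocalRing A] [IsNoetherianRing A] {B : Type u}
    [CommRing B] [Algebra A B] [Module.Finite A B] (h : maximalIdeal A ∉ associatedPrimes A B) :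
    ∃ c ∈ maximalIdeal A, ∀ x : B, algebraMap A B c * x = 0 → x = 0 := by
  by_contra hc
  push Not at hc
  have hsub : (maximalIdeal A : Set A) ⊆ ⋃ p ∈ (associatedPrimes.finite A B).toFinset, (p : Set A) := by
    intro c hcm
    obtain ⟨x, hx, hx0⟩ := hc c hcm
    have : c ∈ {r : A | ∃ x : B, x ≠ 0 ∧ r • x = 0} := ⟨x, hx0, by rw [Algebra.smul_def, hx]⟩
    rw [← biUnion_associatedPrimes_eq_zero_divisors] at this
    simpa using this
  obtain ⟨p, hp, hle⟩ := (Ideal.subset_union_prime (maximalIdeal A) (maximalIdeal A)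
    (fun p hp _ _ => ((associatedPrimes.finite A B).mem_toFinset.1 hp).isPrime)).1 hsub
  have hp' := (associatedPrimes.finite A B).mem_toFinset.1 hp
  exact h ((IsLocalRing.maximalIdeal.isMaximal A).eq_of_le hp'.isPrime.ne_top hle ▸ hp')

variable {A : Type u} [CommRing A] [IsLocalRing A] [IsNoetherianRing A] [Ring.KrullDimLE 1 A]
  {B : Type u} [CommRing B] [Algebra A B]

abbrev CL (B' : Type u) [CommRing B'] [Algebra B B'] (q : MaximalSpectrum B) : Type u :=
  Localization (Algebra.algebraMapSubmonoid B' q.asIdeal.primeCompl)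

theorem semilocal_core {B' : Type u} [CommRing B'] [Algebra A B'] [Algebra B B'] [IsScalarTower A B B']
    [Module.Finite A B] [Module.Finite B B'] [Fintype (MaximalSpectrum B)] [Fintype (MaximalSpectrum B')]
    [hloc : ∀ q : MaximalSpectrum B, IsLocalHom (algebraMap A (Loc q))]
    (hB' : CycAlg.IsFinExt A B' (maximalIdeal A)) (hg : Function.Injective (algebraMap B B'))
    (regB : ∀ r ∈ A⁰, algebraMap A B r ∈ B⁰) {c : A} (hcm : c ∈ maximalIdeal A) (hc : c ∈ A⁰)
    (a b : A) (ha : a ∈ A⁰) (hb : b ∈ A⁰)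
    (π : ∀ n : MaximalSpectrum B', Loc n) (hπ : ∀ n, π n ∈ (Loc n)⁰)
    (v : ∀ n : MaximalSpectrum B', Fin 2 → (Loc n)ˣ) (e : MaximalSpectrum B' → Fin 2 → ℕ)
    (hve : ∀ n k, algebraMap A (Loc n) (![a, b] k) = (v n k : Loc n) * π n ^ e n k) :
    CycAlg.tameSymbol A a b = ∏ q : MaximalSpectrum B, Algebra.norm (ResidueField A)
      (CycAlg.tameSymbol (Loc q) (algebraMap A (Loc q) a) (algebraMap A (Loc q) b)) := by
  classical
  haveI : Algebra.IsIntegral B B' := Algebra.IsIntegral.of_finite B B'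
  haveI := isNoetherianRing_of_finite A (B := B)
  haveI := hB'.2.1
  obtain ⟨N, hN⟩ := hB'.2.2
  haveI hCfin : ∀ q, Module.Finite (Loc q) (CL B' q) := fun q =>
    Module.Finite.of_isLocalizedModule q.asIdeal.primeCompl
      (IsScalarTower.toAlgHom B B' (CL B' q)).toLinearMap
  have hunder : ∀ q (Q : MaximalSpectrum (CL B' q)),
      (Q.asIdeal.comap (algebraMap B' (CL B' q))).comap (algebraMap B B') = q.asIdeal := fun q Q => by
    haveI := Q.isMaximal
    haveI : Algebra.IsIntegral (Loc q) (CL B' q) := Algebra.IsIntegral.of_finite _ _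
    rw [Ideal.comap_comap, ← IsScalarTower.algebraMap_eq,
      IsScalarTower.algebraMap_eq B (Loc q) (CL B' q), ← Ideal.comap_comap,
      IsLocalRing.eq_maximalIdeal (Ideal.isMaximal_comap_of_isIntegral_of_isMaximal Q.asIdeal)]
    exact Localization.AtPrime.under_maximalIdeal
  let Φ : (Σ q : MaximalSpectrum B, MaximalSpectrum (CL B' q)) → MaximalSpectrum B' := fun p =>
    ⟨p.2.asIdeal.comap (algebraMap B' (CL B' p.1)), by
      haveI := p.2.isMaximal
      haveI := Ideal.comap_isPrime (algebraMap B' (CL B' p.1)) p.2.asIdeal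
      exact Ideal.isMaximal_of_isIntegral_of_isMaximal_comap (R := B) _ (by
        rw [hunder]; exact p.1.isMaximal)⟩
  have hΦ : Function.Bijective Φ := by
    constructor
    · rintro ⟨q, Q⟩ ⟨q', Q'⟩ h
      have h' : Q.asIdeal.comap (algebraMap B' (CL B' q)) = Q'.asIdeal.comap (algebraMap B' (CL B' q')) :=
        congrArg MaximalSpectrum.asIdeal h
      have hq : q = q' := MaximalSpectrum.ext (by rw [← hunder q Q, ← hunder q' Q', h'])
      subst hq
      have : Q = Q' := MaximalSpectrum.ext (by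
        rw [← IsLocalization.map_comap (Algebra.algebraMapSubmonoid B' (MaximalSpectrum.asIdeal q).primeCompl) (CL B' q) Q.asIdeal,
          ← IsLocalization.map_comap (Algebra.algebraMapSubmonoid B' (MaximalSpectrum.asIdeal q).primeCompl) (CL B' q) Q'.asIdeal]
        exact congrArg _ h')
      rw [this]
    · intro n
      let q : MaximalSpectrum B := below A (IsScalarTower.toAlgHom A B B') n
      haveI := n.isMaximal
      have hdis : Disjoint (Algebra.algebraMapSubmonoid B' q.asIdeal.primeCompl : Set B') (n.asIdeal : Set B') := by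
        rw [Set.disjoint_left]
        rintro _ ⟨s, hs, rfl⟩ hmem
        exact hs hmem
      haveI := IsLocalization.isPrime_of_isPrime_disjoint (Algebra.algebraMapSubmonoid B' (MaximalSpectrum.asIdeal q).primeCompl) (CL B' q) n.asIdeal inferInstance hdis
      obtain ⟨Q, hQ, hle⟩ := Ideal.exists_le_maximal _ (Ideal.IsPrime.ne_top this)
      refine ⟨⟨q, ⟨Q, hQ⟩⟩, MaximalSpectrum.ext ?_⟩
      exact (n.isMaximal.eq_of_le (Ideal.comap_ne_top _ hQ.ne_top)
        (Ideal.map_le_iff_le_comap.1 hle)).symm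
  have hC : ∀ q, CycAlg.IsFinExt (Loc q) (CL B' q) (maximalIdeal (Loc q)) := fun q => by
    refine ⟨?_, hCfin q, ?_⟩
    · refine (injective_iff_map_eq_zero _).2 fun x hx => ?_
      obtain ⟨⟨y, s⟩, hys⟩ := IsLocalization.surj q.asIdeal.primeCompl x
      have h0 : algebraMap B' (CL B' q) (algebraMap B B' y) = 0 := by
        rw [← IsScalarTower.algebraMap_apply, IsScalarTower.algebraMap_apply B (Loc q) (CL B' q), ← hys,
          map_mul, hx, zero_mul]
      obtain ⟨⟨_, s', hs', rfl⟩, hm⟩ := (IsLocalization.map_eq_zero_iff (Algebra.algebraMapSubmonoid B' (MaximalSpectrum.asIdeal q).primeCompl) (CL B' q) _).1 h0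
      refine ((IsLocalization.map_units (Loc q) s).mul_left_eq_zero).1 ?_
      rw [hys]
      refine (IsLocalization.map_eq_zero_iff q.asIdeal.primeCompl (Loc q) _).2 ⟨⟨s', hs'⟩, hg ?_⟩
      rw [map_mul, map_zero]
      exact hm
    · haveI := krullDimLE_loc A q
      haveI : IsNoetherianRing (Loc q) := IsLocalization.isNoetherianRing q.asIdeal.primeCompl _ inferInstance
      have hcq : algebraMap A (Loc q) (c ^ N) ∈ (Loc q)⁰ := by
        rw [IsScalarTower.algebraMap_apply A B (Loc q)]
        exact IsLocalization.map_nonZeroDivisors_le q.asIdeal.primeCompl (Loc q)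
          ⟨_, regB _ (pow_mem hc N), rfl⟩
      haveI : IsArtinianRing (Loc q ⧸ Ideal.span {algebraMap A (Loc q) (c ^ N)}) := by
        have := isFiniteLength_quotient_span_singleton (R := Loc q) hcq
        rw [isFiniteLength_iff_isNoetherian_isArtinian] at this
        exact isArtinian_of_tower (Loc q) this.2
      obtain ⟨K, hK⟩ := exists_maximalIdeal_pow_le_of_isArtinianRing_quotient
        (Ideal.span {algebraMap A (Loc q) (c ^ N)})
      refine ⟨K, fun r hr z => ?_⟩
      obtain ⟨w, rfl⟩ := Ideal.mem_span_singleton'.1 (hK hr)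
      obtain ⟨⟨y, _, s, hs, rfl⟩, hys⟩ := IsLocalization.surj (Algebra.algebraMapSubmonoid B' (MaximalSpectrum.asIdeal q).primeCompl) z
      obtain ⟨a', ha'⟩ := hN (c ^ N) (Ideal.pow_mem_pow hcm N) y
      obtain ⟨si, hsi⟩ := (IsLocalization.map_units (Loc q) (⟨s, hs⟩ : q.asIdeal.primeCompl)).exists_right_inv
      refine ⟨w * algebraMap A (Loc q) a' * si, ?_⟩
      have e1 : algebraMap A (CL B' q) a' = algebraMap A (CL B' q) (c ^ N) *
          (z * algebraMap B' (CL B' q) (algebraMap B B' s)) := by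
        rw [hys, IsScalarTower.algebraMap_apply A B' (CL B' q), ha', Algebra.smul_def, map_mul,
          ← IsScalarTower.algebraMap_apply]
      have e2 : algebraMap B' (CL B' q) (algebraMap B B' s) * algebraMap (Loc q) (CL B' q) si = 1 := by
        rw [← IsScalarTower.algebraMap_apply, IsScalarTower.algebraMap_apply B (Loc q) (CL B' q),
          ← map_mul, hsi, map_one]
      haveI : IsScalarTower A (Loc q) (CL B' q) := IsScalarTower.to₁₃₄ A B (Loc q) (CL B' q)
      rw [map_mul, map_mul, ← IsScalarTower.algebraMap_apply A (Loc q) (CL B' q), e1, Algebra.smul_def,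
        map_mul, ← IsScalarTower.algebraMap_apply A (Loc q) (CL B' q)]
      linear_combination (algebraMap (Loc q) (CL B' q) w * algebraMap A (CL B' q) (c ^ N) * z) * e2
  rw [tameSymbol_eq_prod hB' π hπ ha hb (fun n => v n 0) (fun n => v n 1) (fun n => e n 0) (fun n => e n 1)
    (fun n => hve n 0) (fun n => hve n 1)]
  haveI : ∀ q : MaximalSpectrum B, IsNoetherianRing (Loc q) := fun q =>
    IsLocalization.isNoetherianRing q.asIdeal.primeCompl _ inferInstance
  haveI := fun q => finite_maximalSpectrum' (hC q)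
  letI := fun q => Fintype.ofFinite (MaximalSpectrum (CL (B := B) B' q))
  rw [← Fintype.prod_bijective Φ hΦ _ _ (fun p => rfl), Fintype.prod_sigma]
  refine Finset.prod_congr rfl fun q _ => ?_
  haveI := krullDimLE_loc A q
  haveI : IsNoetherianRing (Loc q) := IsLocalization.isNoetherianRing q.asIdeal.primeCompl _ inferInstance
  haveI := finite_residueField A q
  haveI : IsScalarTower A (Loc q) (CL B' q) := IsScalarTower.to₁₃₄ A B (Loc q) (CL B' q)
  have hφ : ∀ Q : MaximalSpectrum (CL B' q), ∃ φ : Loc (Φ ⟨q, Q⟩) ≃+* Loc Q, ∀ z : A,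
      φ (algebraMap A (Loc (Φ ⟨q, Q⟩)) z) = algebraMap (Loc q) (Loc Q) (algebraMap A (Loc q) z) := fun Q => by
    haveI := Q.isMaximal
    haveI := IsLocalization.isLocalization_isLocalization_atPrime_isLocalization (Algebra.algebraMapSubmonoid B' (MaximalSpectrum.asIdeal q).primeCompl) (Loc Q) Q.asIdeal
    haveI : IsLocalization (Φ ⟨q, Q⟩).asIdeal.primeCompl (Loc Q) := this
    refine ⟨(IsLocalization.algEquiv (Φ ⟨q, Q⟩).asIdeal.primeCompl (Loc (Φ ⟨q, Q⟩)) (Loc Q)).toRingEquiv,
      fun z => ?_⟩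
    rw [IsScalarTower.algebraMap_apply A B' (Loc (Φ ⟨q, Q⟩))]
    refine (AlgEquiv.commutes _ _).trans ?_
    rw [IsScalarTower.algebraMap_apply B' (CL B' q) (Loc Q), ← IsScalarTower.algebraMap_apply A B' (CL B' q),
      IsScalarTower.algebraMap_apply A (Loc q) (CL B' q), ← IsScalarTower.algebraMap_apply (Loc q) (CL B' q) (Loc Q)]
  choose φ hφ using hφ
  have hregq : ∀ r ∈ A⁰, algebraMap A (Loc q) r ∈ (Loc q)⁰ := fun r hr => by
    rw [IsScalarTower.algebraMap_apply A B (Loc q)]
    exact IsLocalization.map_nonZeroDivisors_le q.asIdeal.primeCompl (Loc q) ⟨_, regB r hr, rfl⟩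
  rw [tameSymbol_eq_prod (hC q) (fun Q => φ Q (π (Φ ⟨q, Q⟩)))
    (fun Q => map_mem_nonZeroDivisors_of_equiv (φ Q) (hπ _)) (hregq a ha) (hregq b hb)
    (fun Q => Units.map (φ Q : Loc (Φ ⟨q, Q⟩) →* Loc Q) (v (Φ ⟨q, Q⟩) 0))
    (fun Q => Units.map (φ Q : Loc (Φ ⟨q, Q⟩) →* Loc Q) (v (Φ ⟨q, Q⟩) 1))
    (fun Q => e (Φ ⟨q, Q⟩) 0) (fun Q => e (Φ ⟨q, Q⟩) 1)
    (fun Q => by rw [← hφ, show algebraMap A (Loc (Φ ⟨q, Q⟩)) a = _ from hve _ 0, map_mul, map_pow]; rfl)
    (fun Q => by rw [← hφ, show algebraMap A (Loc (Φ ⟨q, Q⟩)) b = _ from hve _ 1, map_mul, map_pow]; rfl),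
    map_prod]
  refine Finset.prod_congr rfl fun Q _ => ?_
  rw [map_pow, ord_ringEquiv, norm_normF (A := A) _ Q (φ Q) (hφ Q)]


theorem tameSymbol_semilocal (hB : CycAlg.IsFinExt A B (maximalIdeal A))
    (hass : maximalIdeal A ∉ associatedPrimes A B) [Fintype (MaximalSpectrum B)]
    [hloc : ∀ q : MaximalSpectrum B, IsLocalHom (algebraMap A (Loc q))]
    (a b : A) (ha : a ∈ A⁰) (hb : b ∈ A⁰) :
    CycAlg.tameSymbol A a b = ∏ q : MaximalSpectrum B, Algebra.norm (ResidueField A)
      (CycAlg.tameSymbol (Loc q) (algebraMap A (Loc q) a) (algebraMap A (Loc q) b)) := by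
  classical
  haveI := hB.2.1
  obtain ⟨c, hcm, hcB⟩ := exists_regular hass
  have hc : c ∈ A⁰ := mem_nonZeroDivisors_iff_right.2 fun x hx => hB.1 (by
    rw [map_zero]; exact hcB _ (by rw [← map_mul, mul_comm, hx, map_zero]))
  have hReg : Reg A := ⟨inferInstance, c, hcm, hc⟩
  obtain ⟨j, hj⟩ := exists_embedding hcm hc hB hcB
  obtain ⟨G, hG⟩ := Module.Finite.fg_top (R := A) (M := B)
  haveI : Algebra.IsIntegral A B := Algebra.IsIntegral.of_finite A B
  obtain ⟨B', hsub, hB', hfac⟩ := exists_common hReg ![a, b] (Fin.forall_fin_two.2 ⟨ha, hb⟩)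
    (G.image j) (fun x hx => by
      obtain ⟨y, -, rfl⟩ := Finset.mem_image.1 hx
      exact (Algebra.IsIntegral.isIntegral y).map j)
  have hrange : ∀ x, j x ∈ B' := fun x => by
    have hx : x ∈ Submodule.span A (G : Set B) := hG ▸ trivial
    induction hx using Submodule.span_induction with
    | mem y hy => exact hsub (Finset.mem_coe.2 (Finset.mem_image_of_mem _ hy))
    | zero => rw [map_zero]; exact zero_mem _
    | add y z _ _ hy hz => rw [map_add]; exact add_mem hy hz
    | smul r y _ hy => rw [map_smul]; exact Subalgebra.smul_mem _ hy r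
  let g : B →ₐ[A] B' := j.codRestrict B' hrange
  have hg : Function.Injective g := fun x y hxy => hj (congrArg Subtype.val hxy)
  letI : Algebra B B' := g.toRingHom.toAlgebra
  haveI : IsScalarTower A B B' := IsScalarTower.of_algebraMap_eq fun z => (g.commutes z).symm
  haveI := hB'.2.1
  haveI : Module.Finite B B' := Module.Finite.of_restrictScalars_finite A B B'
  haveI : Algebra.IsIntegral B B' := Algebra.IsIntegral.of_finite B B'
  haveI := isNoetherianRing_of_finite A (B := B)
  haveI := finite_maximalSpectrum A (B := (B' : Type u))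
  haveI := Fintype.ofFinite (MaximalSpectrum B')
  have regB : ∀ r ∈ A⁰, algebraMap A B r ∈ B⁰ := fun r hr => mem_nonZeroDivisors_iff_right.2 fun x hx =>
    hj (by
      rw [map_zero]
      refine (IsLocalization.map_units (TQ A) (⟨r, hr⟩ : A⁰)).mul_left_eq_zero.1 ?_
      rw [← j.commutes, ← map_mul, hx, map_zero])
  choose π hπ hv using hfac
  choose v e hve using hv
  exact semilocal_core hB' hg regB hcm hc a b ha hb π hπ v e hve

end Groth.Agent.TameLib
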