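import Groth.Agent.TameLib.Len

/-!
# The determinant of a scalar on a module killed by the maximal ideal
-/

set_option autoImplicit false
set_option linter.style.haveILetI false
set_option linter.unusedSectionVars false
universe u

open IsLocalRing nonZeroDivisors

noncomputable section

namespace Groth.Agent.TameLib

variable (A : Type u) [CommRing A] [IsLocalRing A] {B : Type u} [CommRing B] [Algebra A B]

omit [IsLocalRing A] in
theorem smulCommClass_of_surjective {k : Type u} [CommRing k] [Algebra A k]
    (hs : Function.Surjective (algebraMap A k)) (M : Type u) [AddCommGroup M] [Module A M] [Module B M]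
    [IsScalarTower A B M] [Module k M] [IsScalarTower A k M] : SMulCommClass B k M := ⟨fun b c m => by
  obtain ⟨a, rfl⟩ := hs c
  rw [algebraMap_smul, algebraMap_smul, smul_comm]⟩

theorem residue_smul_comm (M : Type u) [AddCommGroup M] [Module A M] [Module B M] [IsScalarTower A B M]
    [Module (ResidueField A) M] [IsScalarTower A (ResidueField A) M] : SMulCommClass B (ResidueField A) M :=
  smulCommClass_of_surjective A residue_surjective M

/-- The determinant of a scalar. -/
def detS (x : B) (M : Type u) [AddCommGroup M] [Module A M] [Module B M] [IsScalarTower A B M]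
    [Module (ResidueField A) M] [IsScalarTower A (ResidueField A) M] : ResidueField A :=
  haveI := residue_smul_comm A (B := B) M
  haveI : SMulCommClass (ResidueField A) B M := SMulCommClass.symm _ _ _
  LinearMap.det (DistribSMul.toLinearMap (ResidueField A) M x)

theorem detS_congr (x : B) {M N : Type u} [AddCommGroup M] [Module A M] [Module B M] [IsScalarTower A B M]
    [Module (ResidueField A) M] [IsScalarTower A (ResidueField A) M]
    [AddCommGroup N] [Module A N] [Module B N] [IsScalarTower A B N]
    [Module (ResidueField A) N] [IsScalarTower A (ResidueField A) N] (e : M ≃ₗ[B] N) :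
    detS A x M = detS A x N := by
  haveI := residue_smul_comm A (B := B) M
  haveI := residue_smul_comm A (B := B) N
  haveI : SMulCommClass (ResidueField A) B M := SMulCommClass.symm _ _ _
  haveI : SMulCommClass (ResidueField A) B N := SMulCommClass.symm _ _ _
  let e' : M ≃ₗ[ResidueField A] N :=
    { e.toAddEquiv with
      map_smul' := fun c m => by
        obtain ⟨a, rfl⟩ := residue_surjective c
        show e (residue A a • m) = residue A a • e m
        rw [← ResidueField.algebraMap_eq, algebraMap_smul, algebraMap_smul]
        exact (e.restrictScalars A).map_smul a m }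
  show LinearMap.det _ = LinearMap.det _
  rw [← LinearMap.det_conj (DistribSMul.toLinearMap (ResidueField A) M x) e']
  congr 1
  refine LinearMap.ext fun z => ?_
  show e (x • e.symm z) = x • z
  rw [map_smul, e.apply_symm_apply]

theorem detS_add (x : B) {M N Q : Type u} [AddCommGroup M] [Module A M] [Module B M] [IsScalarTower A B M]
    [Module (ResidueField A) M] [IsScalarTower A (ResidueField A) M] [Module.Finite (ResidueField A) M]
    [AddCommGroup N] [Module A N] [Module B N] [IsScalarTower A B N]
    [Module (ResidueField A) N] [IsScalarTower A (ResidueField A) N]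
    [AddCommGroup Q] [Module A Q] [Module B Q] [IsScalarTower A B Q]
    [Module (ResidueField A) Q] [IsScalarTower A (ResidueField A) Q]
    (f : N →ₗ[B] M) (g : M →ₗ[B] Q) (hf : Function.Injective f) (hg : Function.Surjective g)
    (hfg : Function.Exact f g) : detS A x M = detS A x N * detS A x Q := by
  haveI := residue_smul_comm A (B := B) M
  haveI := residue_smul_comm A (B := B) N
  haveI := residue_smul_comm A (B := B) Q
  haveI : SMulCommClass (ResidueField A) B M := SMulCommClass.symm _ _ _
  haveI : SMulCommClass (ResidueField A) B N := SMulCommClass.symm _ _ _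
  haveI : SMulCommClass (ResidueField A) B Q := SMulCommClass.symm _ _ _
  let f' : N →ₗ[ResidueField A] M := (f.restrictScalars A).extendScalarsOfSurjective residue_surjective
  let g' : M →ₗ[ResidueField A] Q := (g.restrictScalars A).extendScalarsOfSurjective residue_surjective
  let φ := DistribSMul.toLinearMap (ResidueField A) M x
  let W := LinearMap.range f'
  have he : W ≤ W.comap φ := by
    rintro _ ⟨n, rfl⟩
    exact ⟨x • n, map_smul f x n⟩
  show LinearMap.det φ = LinearMap.det _ * LinearMap.det _
  rw [LinearMap.det_eq_det_mul_det W φ he]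
  let eN : N ≃ₗ[ResidueField A] W := LinearEquiv.ofInjective f' hf
  have hk : W = LinearMap.ker g' := by
    ext m
    exact ⟨fun ⟨n, hn⟩ => hn ▸ hfg.apply_apply_eq_zero n, fun h => (hfg m).1 h⟩
  let eQ : (M ⧸ W) ≃ₗ[ResidueField A] Q :=
    (Submodule.quotEquivOfEq _ _ hk).trans (g'.quotKerEquivOfSurjective hg)
  rw [← LinearMap.det_conj (DistribSMul.toLinearMap (ResidueField A) N x) eN,
    ← LinearMap.det_conj (W.mapQ W φ he) eQ]
  congr 1
  · congr 1
    refine LinearMap.ext fun z => Subtype.ext ?_
    obtain ⟨n, rfl⟩ := eN.surjective z
    show x • f n = (eN (x • eN.symm (eN n)) : M)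
    rw [eN.symm_apply_apply]
    exact (map_smul f x n).symm
  · congr 1
    refine LinearMap.ext fun z => ?_
    obtain ⟨q, rfl⟩ := eQ.surjective z
    obtain ⟨m, rfl⟩ := Submodule.Quotient.mk_surjective W q
    show eQ (W.mapQ W φ he (eQ.symm (eQ (Submodule.Quotient.mk m)))) = x • eQ (Submodule.Quotient.mk m)
    rw [eQ.symm_apply_apply]
    exact map_smul g x m

variable [Module.Finite A B]

theorem detS_residueField (q : MaximalSpectrum B) (x : B) :
    haveI := isLocalHom_loc A q
    detS A x (ResidueField (Loc q)) =
      Algebra.norm (ResidueField A) (residue (Loc q) (algebraMap B (Loc q) x)) := by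
  haveI := isLocalHom_loc A q
  rw [detS, Algebra.norm_apply]
  congr 1
  refine LinearMap.ext fun z => ?_
  show x • z = _
  rw [Algebra.smul_def]
  rfl

/-- The determinant of a scalar is read off the local lengths. -/
theorem detS_eq_prod [Fintype (MaximalSpectrum B)] (x : B) {M : Type u} [AddCommGroup M] [Module B M]
    (hM : IsFiniteLength B M) : ∀ [Module A M] [IsScalarTower A B M] [Module (ResidueField A) M]
      [IsScalarTower A (ResidueField A) M] [Module.Finite (ResidueField A) M],
    (∀ q : MaximalSpectrum B, Module.length (Loc q) (LocalizedModule q.asIdeal.primeCompl M) ≠ ⊤) ∧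
    detS A x M = ∏ q : MaximalSpectrum B,
      (haveI := isLocalHom_loc A q
       Algebra.norm (ResidueField A) (residue (Loc q) (algebraMap B (Loc q) x))) ^
      (Module.length (Loc q) (LocalizedModule q.asIdeal.primeCompl M)).toNat := by
  classical
  induction hM with
  | @of_subsingleton M _ _ _ =>
    intro _ _ _ _ _
    refine ⟨fun q => by rw [Module.length_eq_zero]; exact ENat.zero_ne_top, ?_⟩
    rw [detS, Finset.prod_eq_one]
    · convert LinearMap.det_id (A := ResidueField A) (M := M) using 2
      exact LinearMap.ext fun z => Subsingleton.elim _ _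
    · intro q _
      rw [Module.length_eq_zero, ENat.toNat_zero, pow_zero]
  | @of_simple_quotient M _ _ N hs hN ih =>
    intro _ _ _ _ _
    let W : Submodule (ResidueField A) M :=
      { carrier := N
        add_mem' := N.add_mem
        zero_mem' := N.zero_mem
        smul_mem' := fun c m hm => by
          obtain ⟨a, rfl⟩ := residue_surjective c
          rw [← ResidueField.algebraMap_eq, algebraMap_smul, ← algebraMap_smul B a m]
          exact N.smul_mem _ hm }
    letI : Module (ResidueField A) N := inferInstanceAs (Module (ResidueField A) W)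
    haveI : IsScalarTower A (ResidueField A) N := ⟨fun a c n => Subtype.ext (smul_assoc a c (n : M))⟩
    haveI : Module.Finite (ResidueField A) N := inferInstanceAs (Module.Finite (ResidueField A) W)
    obtain ⟨hfinN, ihN⟩ := ih
    have e2 : ∀ q : MaximalSpectrum B, Module.length (Loc q) (LocalizedModule q.asIdeal.primeCompl M) =
        Module.length (Loc q) (LocalizedModule q.asIdeal.primeCompl N) +
        Module.length (Loc q) (LocalizedModule q.asIdeal.primeCompl (M ⧸ N)) := fun q =>
      Module.length_eq_add_of_exact (LocalizedModule.map q.asIdeal.primeCompl N.subtype)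
        (LocalizedModule.map q.asIdeal.primeCompl N.mkQ)
        (LocalizedModule.map_injective _ _ N.injective_subtype)
        (LocalizedModule.map_surjective _ _ N.mkQ_surjective)
        (LocalizedModule.map_exact _ _ _ (LinearMap.exact_subtype_mkQ N))
    obtain ⟨I, hI, ⟨e⟩⟩ := isSimpleModule_iff_quot_maximal.1 hs
    let Q₀ : MaximalSpectrum B := ⟨I, hI⟩
    haveI := hI
    haveI := isLocalHom_loc A Q₀
    let e' : (M ⧸ N) ≃ₗ[B] ResidueField (Loc Q₀) := e.trans (LinearEquiv.ofBijective
      (IsScalarTower.toAlgHom B (B ⧸ I) I.ResidueField).toLinearMap I.bijective_algebraMap_quotient_residueField)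
    have hone : Module.length (Loc Q₀) (LocalizedModule I.primeCompl (M ⧸ N)) = 1 := by
      haveI : IsSimpleModule (Loc Q₀) (LocalizedModule I.primeCompl (M ⧸ N)) := by
        refine isSimpleModule_iff_quot_maximal.2 ⟨maximalIdeal _, inferInstance, ⟨?_⟩⟩
        let S := I.primeCompl
        let L := Localization.AtPrime I
        let f := Algebra.linearMap B L
        let P : Submodule L L := (I : Submodule B B).localized' L S f
        have hP : P = maximalIdeal L :=
          (Ideal.localized'_eq_map L S _).trans Localization.AtPrime.map_eq_maximalIdeal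
        let g := (I : Submodule B B).toLocalizedQuotient' L S f
        exact (IsLocalizedModule.mapEquiv S (LocalizedModule.mkLinearMap S (M ⧸ N))
            (LocalizedModule.mkLinearMap S (B ⧸ I)) (Localization S) e).trans
          (((IsLocalizedModule.iso S g).extendScalarsOfIsLocalization S L).trans
            (Submodule.quotEquivOfEq P _ hP))
      exact Module.length_eq_one _ _
    have hzero : ∀ q : MaximalSpectrum B, q ≠ Q₀ →
        Module.length (Loc q) (LocalizedModule q.asIdeal.primeCompl (M ⧸ N)) = 0 := fun q hq => by
      haveI : Subsingleton (LocalizedModule q.asIdeal.primeCompl (M ⧸ N)) := by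
        obtain ⟨t, htI, htq⟩ := SetLike.not_le_iff_exists.1 fun hle =>
          hq (MaximalSpectrum.ext (hI.eq_of_le q.isMaximal.ne_top hle).symm)
        refine LocalizedModule.subsingleton_iff.2 fun z => ⟨t, htq, e.injective ?_⟩
        obtain ⟨y, hy⟩ := Ideal.Quotient.mk_surjective (e z)
        rw [map_smul, map_zero, ← hy, ← Ideal.Quotient.mk_eq_mk]
        exact (Submodule.Quotient.mk_eq_zero I).2 (I.mul_mem_right y htI)
      exact Module.length_eq_zero
    have hfinQ : ∀ q : MaximalSpectrum B,
        Module.length (Loc q) (LocalizedModule q.asIdeal.primeCompl (M ⧸ N)) ≠ ⊤ := fun q => by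
      rcases eq_or_ne q Q₀ with rfl | hq
      · rw [hone]; exact ENat.one_ne_top
      · rw [hzero q hq]; exact ENat.zero_ne_top
    refine ⟨fun q => by rw [e2]; exact WithTop.add_ne_top.2 ⟨hfinN q, hfinQ q⟩, ?_⟩
    rw [detS_add A x N.subtype (e'.toLinearMap ∘ₗ N.mkQ) (Submodule.subtype_injective _)
      (e'.surjective.comp N.mkQ_surjective) (fun m => by
        show e' (Submodule.Quotient.mk m) = 0 ↔ _
        rw [e'.map_eq_zero_iff, Submodule.Quotient.mk_eq_zero]
        exact ⟨fun h => ⟨⟨m, h⟩, rfl⟩, fun ⟨n, hn⟩ => hn ▸ n.2⟩), ihN, detS_residueField A Q₀ x]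
    simp only [e2, ENat.toNat_add (hfinN _) (hfinQ _), pow_add, Finset.prod_mul_distrib]
    congr 1
    rw [Finset.prod_eq_single Q₀ (fun q _ hq => by rw [hzero q hq, ENat.toNat_zero, pow_zero])
      (fun h => absurd (Finset.mem_univ _) h), hone, ENat.toNat_one, pow_one]

/-- Local lengths of `B / yB`. -/
theorem length_loc_quot_span (y : B) (q : MaximalSpectrum B) :
    Module.length (Loc q) (LocalizedModule q.asIdeal.primeCompl (B ⧸ Ideal.span {y})) =
      Ring.ord (Loc q) (algebraMap B (Loc q) y) := by
  let S := q.asIdeal.primeCompl
  let f := Algebra.linearMap B (Loc q)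
  let P : Submodule (Loc q) (Loc q) := (Ideal.span {y} : Submodule B B).localized' (Loc q) S f
  have hP : P = Ideal.span {algebraMap B (Loc q) y} :=
    (Ideal.localized'_eq_map (Loc q) S _).trans (by rw [Ideal.map_span, Set.image_singleton])
  let g := (Ideal.span {y} : Submodule B B).toLocalizedQuotient' (Loc q) S f
  exact (((IsLocalizedModule.iso S g).extendScalarsOfIsLocalization S (Loc q)).trans
    (Submodule.quotEquivOfEq P _ hP)).length_eq

end Groth.Agent.TameLib
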