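import Groth.Agent.TameLib.Unique

/-!
# Laws of the tame symbol
-/

set_option autoImplicit false
set_option linter.style.haveILetI false
set_option linter.unusedSectionVars false
universe u

open IsLocalRing nonZeroDivisors

noncomputable section

namespace Groth.Agent.TameLib

section local_identities

variable {C : Type u} [CommRing C] [IsLocalRing C]

theorem grp_shuffle {G : Type*} [CommGroup G] (a a' b b' c c' : G) :
    a * a' * (b * b') * (c * c') = a * b * c * (a' * b' * c') := by ac_rfl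

theorem grp_lt {G : Type*} [CommGroup G] (ε x y : G) (hε : ε * ε = 1) (e f : ℕ) (hee : ε ^ (e * e) = ε ^ e) :
    ε ^ (e * e) * x ^ e * ((ε * x) ^ e)⁻¹ * ε ^ f =
      ε ^ (f * e) * y ^ e * ((ε * x) ^ f)⁻¹ * (ε ^ (e * f) * x ^ f * (y ^ e)⁻¹) := by
  have hsq : ∀ k : ℕ, ε ^ k * ε ^ k = 1 := fun k => by rw [← mul_pow, hε, one_pow]
  have hinv : ∀ k : ℕ, (ε ^ k)⁻¹ = ε ^ k := fun k => inv_eq_of_mul_eq_one_right (hsq k)
  rw [mul_pow, mul_pow, mul_inv, mul_inv, hinv, hinv, hee, mul_comm f e]
  calc ε ^ e * x ^ e * (ε ^ e * (x ^ e)⁻¹) * ε ^ f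
      = (ε ^ e * ε ^ e) * (x ^ e * (x ^ e)⁻¹) * ε ^ f := by ac_rfl
    _ = (ε ^ (e * f) * ε ^ (e * f)) * (y ^ e * (y ^ e)⁻¹) * (x ^ f * (x ^ f)⁻¹) * ε ^ f := by
      simp [hsq]
    _ = _ := by ac_rfl

theorem zedU_mul_left (u u' v : Cˣ) (e e' f : ℕ) :
    zedU (u * u') v (e + e') f = zedU u v e f * zedU u' v e' f := by
  simp only [zedU, map_mul, mul_pow, pow_add, add_mul, mul_inv]
  exact grp_shuffle ..

theorem zedU_mul_right (v u u' : Cˣ) (f e e' : ℕ) :
    zedU v (u * u') f (e + e') = zedU v u f e * zedU v u' f e' := by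
  simp only [zedU, map_mul, mul_pow, pow_add, mul_add, mul_inv]
  exact grp_shuffle ..

theorem zedU_self (u : Cˣ) (e : ℕ) : zedU u u e e = (-1) ^ e := by
  rw [zedU, mul_assoc, mul_inv_cancel, mul_one]
  have := neg_one_pow_sq (G := (ResidueField C)ˣ) e 1
  rwa [mul_one, mul_one] at this

theorem unit_pow_unique {π : C} (hπ : π ∈ C⁰) (hu : ¬ IsUnit π) {x y : Cˣ} {k l : ℕ}
    (h : (x : C) * π ^ k = y * π ^ l) : k = l := by
  have key : ∀ (x y : Cˣ) (k l : ℕ), k < l → (x : C) * π ^ k ≠ y * π ^ l := by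
    intro x y k l hkl h
    have h' : ((x : C) - y * π ^ (l - k)) * π ^ k = 0 := by
      rw [sub_mul, mul_assoc, ← pow_add, Nat.sub_add_cancel hkl.le, h, sub_self]
    have := sub_eq_zero.1 (mem_nonZeroDivisors_iff_right.1 (pow_mem hπ k) _ h')
    have hux : IsUnit ((y : C) * π ^ (l - k)) := this ▸ x.isUnit
    exact hu ((isUnit_pow_iff (Nat.sub_ne_zero_of_lt hkl)).1 (isUnit_of_mul_isUnit_right hux))
  rcases lt_trichotomy k l with hkl | hkl | hkl
  · exact absurd h (key x y k l hkl)
  · exact hkl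
  · exact absurd h.symm (key y x l k hkl)

theorem steinberg_local {π : C} (hπ : π ∈ C⁰) (hu : ¬ IsUnit π) (u v w : Cˣ) (e f g : ℕ)
    (h : (v : C) * π ^ f - u * π ^ e = w * π ^ g) :
    zedU u w e g * zedU v v f f = zedU v w f g * zedU u v e f := by
  have hmax : ∀ k, 0 < k → residue C (π ^ k) = 0 := fun k hk => by
    rw [map_pow, (residue_eq_zero_iff π).2 hu, zero_pow hk.ne']
  have hsq : ∀ n : ℕ, ((-1 : (ResidueField C)ˣ)) ^ n * (-1) ^ n = 1 := fun n => by
    rw [← mul_pow, neg_mul_neg, one_mul, one_pow]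
  rw [zedU_self]
  rcases lt_trichotomy e f with hlt | hlt | hlt
  · have h2 : ((v : C) * π ^ (f - e) - u) * π ^ e = w * π ^ g := by
      rw [sub_mul, mul_assoc, ← pow_add, Nat.sub_add_cancel hlt.le, h]
    have hunit : IsUnit ((v : C) * π ^ (f - e) - u) := by
      rw [← residue_ne_zero_iff_isUnit, map_sub, map_mul, hmax _ (by omega), mul_zero, zero_sub, neg_ne_zero,
        residue_ne_zero_iff_isUnit]
      exact u.isUnit
    have hge : e = g := unit_pow_unique hπ hu (x := hunit.unit) (y := w) (by rw [IsUnit.unit_spec]; exact h2)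
    subst hge
    have hw : resU w = -1 * resU u := Units.ext (by
      have := mem_nonZeroDivisors_iff_right.1 (pow_mem hπ e) _ (by rw [sub_mul, h2, sub_self] :
        (((v : C) * π ^ (f - e) - u) - w) * π ^ e = 0)
      have h3 := congrArg (residue C) (sub_eq_zero.1 this)
      rw [map_sub, map_mul, hmax _ (by omega), mul_zero, zero_sub] at h3
      simpa using h3.symm)
    simp only [zedU, hw]
    have hee := neg_one_pow_sq (G := (ResidueField C)ˣ) e 1
    rw [mul_one, mul_one] at hee
    exact grp_lt _ _ _ (by rw [neg_mul_neg, one_mul]) e f hee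
  · subst hlt
    have hge : e ≤ g := by
      by_contra hlt'
      push Not at hlt'
      have h2 : (((v : C) - u) * π ^ (e - g) - w) * π ^ g = 0 := by
        rw [sub_mul, mul_assoc, ← pow_add, Nat.sub_add_cancel hlt'.le, sub_mul, h, sub_self]
      have hwu : IsUnit (((v : C) - u) * π ^ (e - g)) := by
        rw [sub_eq_zero.1 (mem_nonZeroDivisors_iff_right.1 (pow_mem hπ g) _ h2)]
        exact w.isUnit
      exact hu ((isUnit_pow_iff (Nat.sub_ne_zero_of_lt hlt')).1 (isUnit_of_mul_isUnit_right hwu))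
    obtain ⟨d, rfl⟩ := Nat.exists_eq_add_of_le hge
    have huv : resU u ^ d = resU v ^ d := by
      rcases Nat.eq_zero_or_pos d with rfl | hd
      · rw [pow_zero, pow_zero]
      · have h2 : ((v : C) - u - w * π ^ d) * π ^ e = 0 := by
          rw [sub_mul, mul_assoc, ← pow_add, add_comm d e, sub_mul, h, sub_self]
        have h3 := congrArg (residue C) (sub_eq_zero.1 (mem_nonZeroDivisors_iff_right.1 (pow_mem hπ e) _ h2))
        rw [map_sub, map_mul, hmax _ hd, mul_zero, sub_eq_zero] at h3
        rw [show resU u = resU v from Units.ext h3.symm]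
    simp only [zedU]
    have hee := neg_one_pow_sq (G := (ResidueField C)ˣ) e 1
    rw [mul_one, mul_one] at hee
    rw [hee, pow_add (resU u), pow_add (resU v), huv]
    apply mul_right_cancel (b := resU v ^ e)
    simp [mul_comm, mul_left_comm, mul_assoc]
    rw [mul_left_comm (resU v ^ e), mul_inv_cancel_left]
  · have h2 : ((v : C) - u * π ^ (e - f)) * π ^ f = w * π ^ g := by
      rw [sub_mul, mul_assoc, ← pow_add, Nat.sub_add_cancel hlt.le, h]
    have hunit : IsUnit ((v : C) - u * π ^ (e - f)) := by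
      rw [← residue_ne_zero_iff_isUnit, map_sub, map_mul, hmax _ (by omega), mul_zero, sub_zero,
        residue_ne_zero_iff_isUnit]
      exact v.isUnit
    have hgf : f = g := unit_pow_unique hπ hu (x := hunit.unit) (y := w) (by rw [IsUnit.unit_spec]; exact h2)
    subst hgf
    have hw : resU w = resU v := Units.ext (by
      have := mem_nonZeroDivisors_iff_right.1 (pow_mem hπ f) _ (by rw [sub_mul, h2, sub_self] :
        (((v : C) - u * π ^ (e - f)) - w) * π ^ f = 0)
      have h3 := congrArg (residue C) (sub_eq_zero.1 this)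
      rw [map_sub, map_mul, hmax _ (by omega), mul_zero, sub_zero] at h3
      exact h3.symm)
    rw [← zedU_self v f, show zedU u w e f = zedU u v e f by simp only [zedU, hw],
      show zedU v w f f = zedU v v f f by simp only [zedU, hw], mul_comm]

end local_identities

variable {A : Type u} [CommRing A] [IsLocalRing A] [IsNoetherianRing A] [Ring.KrullDimLE 1 A]

theorem normF_eq (B : Type u) [CommRing B] [Algebra A B] [Module.Finite A B] (q : MaximalSpectrum B)
    (u v : (Loc q)ˣ) (e f : ℕ) :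
    haveI := isLocalHom_loc A q
    normF A q u v e f = Algebra.norm (ResidueField A) (zedU u v e f : ResidueField (Loc q)) := rfl

/-- A system of factorisations for several elements. -/
theorem exists_system (h : Reg A) {ι : Type*} [Finite ι] (a : ι → A) (ha : ∀ k, a k ∈ A⁰) :
    ∃ (B : Subalgebra A (TQ A)) (hB : CycAlg.IsFinExt A B (maximalIdeal A)) (π : ∀ q : MaximalSpectrum B, Loc q)
      (v : ∀ q : MaximalSpectrum B, ι → (Loc q)ˣ) (e : ∀ _q : MaximalSpectrum B, ι → ℕ),
      (∀ q, π q ∈ (Loc q)⁰) ∧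
      ∀ q k, algebraMap A (Loc q) (a k) = (v q k : Loc q) * π q ^ e q k := by
  obtain ⟨B, -, hB, hfac⟩ := exists_common h a ha ∅ (by simp)
  choose π hπ hv using hfac
  choose v e hve using hv
  exact ⟨B, hB, π, v, e, hπ, hve⟩

theorem forall_units (hreg : ¬ ∃ c ∈ maximalIdeal A, c ∈ A⁰) {a : A} (ha : a ∈ A⁰) : IsUnit a := by
  by_contra h
  exact hreg ⟨a, h, ha⟩

theorem tameSymbol_ne_zero (a b : A) (ha : a ∈ A⁰) (hb : b ∈ A⁰) : CycAlg.tameSymbol A a b ≠ 0 := by
  by_cases hreg : ∃ c ∈ maximalIdeal A, c ∈ A⁰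
  · classical
    obtain ⟨B, hB, π, v, e, hπ, hve⟩ := exists_system ⟨inferInstance, hreg⟩ ![a, b] (Fin.forall_fin_two.2 ⟨ha, hb⟩)
    haveI := hB.2.1
    haveI := finite_maximalSpectrum A (B := (B : Type u))
    haveI := Fintype.ofFinite (MaximalSpectrum B)
    rw [tameSymbol_eq_prod hB π hπ ha hb (fun q => v q 0) (fun q => v q 1) (fun q => e q 0) (fun q => e q 1)
      (fun q => hve q 0) (fun q => hve q 1)]
    refine Finset.prod_ne_zero_iff.2 fun q _ => pow_ne_zero _ ?_
    haveI := isLocalHom_loc A q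
    haveI := finite_residueField A q
    rw [normF]
    exact Algebra.norm_ne_zero_iff.2 (zed_ne_zero _ _ _ _)
  · rw [tameSymbol_eq_one_of_units (forall_units hreg ha) (forall_units hreg hb)]
    exact one_ne_zero

theorem tameSymbol_mul (a a' b : A) (ha : a ∈ A⁰) (ha' : a' ∈ A⁰) (hb : b ∈ A⁰) :
    CycAlg.tameSymbol A (a * a') b = CycAlg.tameSymbol A a b * CycAlg.tameSymbol A a' b ∧
      CycAlg.tameSymbol A b (a * a') = CycAlg.tameSymbol A b a * CycAlg.tameSymbol A b a' := by
  by_cases hreg : ∃ c ∈ maximalIdeal A, c ∈ A⁰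
  · classical
    obtain ⟨B, hB, π, v, e, hπ, hve⟩ := exists_system ⟨inferInstance, hreg⟩ ![a, a', b]
      (fun k => by fin_cases k <;> assumption)
    haveI := hB.2.1
    haveI := finite_maximalSpectrum A (B := (B : Type u))
    haveI := Fintype.ofFinite (MaximalSpectrum B)
    have hmul : ∀ q, algebraMap A (Loc q) (a * a') =
        ((v q 0 * v q 1 : (Loc q)ˣ) : Loc q) * π q ^ (e q 0 + e q 1) := fun q => by
      rw [map_mul, show algebraMap A (Loc q) a = _ from hve q 0,
        show algebraMap A (Loc q) a' = _ from hve q 1, Units.val_mul, pow_add]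
      ring
    have h0 : ∀ q, algebraMap A (Loc q) a = (v q 0 : Loc q) * π q ^ e q 0 := fun q => hve q 0
    have h1 : ∀ q, algebraMap A (Loc q) a' = (v q 1 : Loc q) * π q ^ e q 1 := fun q => hve q 1
    have h2 : ∀ q, algebraMap A (Loc q) b = (v q 2 : Loc q) * π q ^ e q 2 := fun q => hve q 2
    constructor
    · rw [tameSymbol_eq_prod hB π hπ (mul_mem ha ha') hb _ (fun q => v q 2) _ (fun q => e q 2) hmul h2,
        tameSymbol_eq_prod hB π hπ ha hb _ _ _ _ h0 h2, tameSymbol_eq_prod hB π hπ ha' hb _ _ _ _ h1 h2,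
        ← Finset.prod_mul_distrib]
      refine Finset.prod_congr rfl fun q _ => ?_
      haveI := isLocalHom_loc A q
      rw [normF_eq, normF_eq, normF_eq, zedU_mul_left, Units.val_mul, map_mul, mul_pow]
    · rw [tameSymbol_eq_prod hB π hπ hb (mul_mem ha ha') (fun q => v q 2) _ (fun q => e q 2) _ h2 hmul,
        tameSymbol_eq_prod hB π hπ hb ha _ _ _ _ h2 h0, tameSymbol_eq_prod hB π hπ hb ha' _ _ _ _ h2 h1,
        ← Finset.prod_mul_distrib]
      refine Finset.prod_congr rfl fun q _ => ?_
      haveI := isLocalHom_loc A q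
      rw [normF_eq, normF_eq, normF_eq, zedU_mul_right, Units.val_mul, map_mul, mul_pow]
  · have hua := forall_units hreg ha
    have hua' := forall_units hreg ha'
    have hub := forall_units hreg hb
    rw [tameSymbol_eq_one_of_units (hua.mul hua') hub, tameSymbol_eq_one_of_units hua hub,
      tameSymbol_eq_one_of_units hua' hub, tameSymbol_eq_one_of_units hub (hua.mul hua'),
      tameSymbol_eq_one_of_units hub hua, tameSymbol_eq_one_of_units hub hua', mul_one]
    exact ⟨rfl, rfl⟩

/-- The colength of `b` is read off a system of factorisations. -/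
theorem length_eq_sum_system {B : Subalgebra A (TQ A)} (hB : CycAlg.IsFinExt A B (maximalIdeal A))
    [Fintype (MaximalSpectrum B)] (h : Reg A) (π : ∀ q : MaximalSpectrum B, Loc q) (hπ : ∀ q, π q ∈ (Loc q)⁰)
    {b : A} (hb : b ∈ A⁰) (v : ∀ q : MaximalSpectrum B, (Loc q)ˣ) (e : MaximalSpectrum B → ℕ)
    (hve : ∀ q, algebraMap A (Loc q) b = (v q : Loc q) * π q ^ e q) :
    haveI := hB.2.1
    (Module.length A (A ⧸ Ideal.span {b})).toNat =
      ∑ q, deg A q * (e q * (Ring.ord (Loc q) (π q)).toNat) := by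
  haveI := hB.2.1
  obtain ⟨c, hcm, hc⟩ := h.exists_reg
  obtain ⟨N, hN⟩ := hB.2.2
  haveI := isNoetherianRing_of_finite A (B := (B : Type u))
  haveI := krullDimLE_of_finite A (B := (B : Type u))
  obtain ⟨hib, hlen⟩ := length_span_eq_of_hom A (Algebra.ofId A B) hB.1 c
    (fun x hx => regular_subalgebra hc B x hx) (N := N) (fun x => by
      obtain ⟨a, ha⟩ := hN (c ^ N) (Ideal.pow_mem_pow hcm N) x
      exact ⟨a, ha.trans (Algebra.smul_def _ _)⟩) hb
  have fB := isFiniteLength_quotient_span_singleton (R := (B : Type u)) hib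
  rw [hlen, length_quot_span A _ fB, ENat.toNat_sum]
  · refine Finset.sum_congr rfl fun q _ => ?_
    haveI := krullDimLE_loc A q
    haveI : IsNoetherianRing (Loc q) := IsLocalization.isNoetherianRing q.asIdeal.primeCompl _ inferInstance
    rw [ENat.toNat_mul, ENat.toNat_natCast, Algebra.ofId_apply, ← IsScalarTower.algebraMap_apply, hve,
      ord_toNat_pow (hπ q)]
  · intro q _
    haveI := krullDimLE_loc A q
    haveI : IsNoetherianRing (Loc q) := IsLocalization.isNoetherianRing q.asIdeal.primeCompl _ inferInstance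
    exact WithTop.mul_ne_top (ENat.natCast_ne_top _) (Ring.ord_ne_top
      (IsLocalization.map_nonZeroDivisors_le q.asIdeal.primeCompl (Loc q) ⟨_, hib, rfl⟩))

theorem norm_val_pow {B : Type u} [CommRing B] [Algebra A B] [Module.Finite A B] (q : MaximalSpectrum B)
    (x : ResidueField A) :
    haveI := isLocalHom_loc A q
    Algebra.norm (ResidueField A) (algebraMap (ResidueField A) (ResidueField (Loc q)) x) = x ^ deg A q := by
  haveI := isLocalHom_loc A q
  exact Algebra.norm_algebraMap x

theorem tameSymbol_self (b : A) (hb : b ∈ A⁰) :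
    CycAlg.tameSymbol A b b = (-1) ^ (Module.length A (A ⧸ Ideal.span {b})).toNat := by
  by_cases hreg : ∃ c ∈ maximalIdeal A, c ∈ A⁰
  · classical
    obtain ⟨B, hB, π, v, e, hπ, hve⟩ := exists_system ⟨inferInstance, hreg⟩ (fun _ : Unit => b) (fun _ => hb)
    haveI := hB.2.1
    haveI := finite_maximalSpectrum A (B := (B : Type u))
    haveI := Fintype.ofFinite (MaximalSpectrum B)
    rw [tameSymbol_eq_prod hB π hπ hb hb _ _ _ _ (fun q => hve q ()) (fun q => hve q ()),
      length_eq_sum_system hB ⟨inferInstance, hreg⟩ π hπ hb _ _ (fun q => hve q ()),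
      ← Finset.prod_pow_eq_pow_sum]
    refine Finset.prod_congr rfl fun q _ => ?_
    haveI := isLocalHom_loc A q
    rw [normF_eq, zedU_self, Units.val_pow_eq_pow_val, Units.val_neg, Units.val_one,
      show ((-1 : ResidueField (Loc q))) ^ e q () =
        algebraMap (ResidueField A) (ResidueField (Loc q)) ((-1) ^ e q ()) by rw [map_pow, map_neg, map_one],
      norm_val_pow, ← pow_mul, ← pow_mul]
    congr 1
    ring
  · have hu := forall_units hreg hb
    rw [tameSymbol_eq_one_of_units hu hu, Ideal.span_singleton_eq_top.2 hu]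
    haveI : Subsingleton (A ⧸ (⊤ : Ideal A)) := Ideal.Quotient.subsingleton_iff.2 rfl
    rw [Module.length_eq_zero, ENat.toNat_zero, pow_zero]

theorem tameSymbol_unit (c : Aˣ) (b : A) (hb : b ∈ A⁰) :
    CycAlg.tameSymbol A (c : A) b = residue A (c : A) ^ (Module.length A (A ⧸ Ideal.span {b})).toNat := by
  by_cases hreg : ∃ c ∈ maximalIdeal A, c ∈ A⁰
  · classical
    obtain ⟨B, hB, π, v, e, hπ, hve⟩ := exists_system ⟨inferInstance, hreg⟩ (fun _ : Unit => b) (fun _ => hb)
    haveI := hB.2.1
    haveI := finite_maximalSpectrum A (B := (B : Type u))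
    haveI := Fintype.ofFinite (MaximalSpectrum B)
    rw [tameSymbol_eq_prod hB π hπ c.isUnit.mem_nonZeroDivisors hb
        (fun q => Units.map (algebraMap A (Loc q) : A →* Loc q) c) _ (fun _ => 0) _
        (fun q => by simp) (fun q => hve q ()),
      length_eq_sum_system hB ⟨inferInstance, hreg⟩ π hπ hb _ _ (fun q => hve q ()),
      ← Finset.prod_pow_eq_pow_sum]
    refine Finset.prod_congr rfl fun q _ => ?_
    haveI := isLocalHom_loc A q
    rw [normF, zed_eq, zero_mul, pow_zero, pow_zero, inv_one, mul_one, one_mul, Units.coe_map,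
      MonoidHom.coe_coe, ← ResidueField.algebraMap_residue, map_pow, norm_val_pow, ← pow_mul, ← pow_mul]
  · have hu := forall_units hreg hb
    rw [tameSymbol_eq_one_of_units c.isUnit hu, Ideal.span_singleton_eq_top.2 hu]
    haveI : Subsingleton (A ⧸ (⊤ : Ideal A)) := Ideal.Quotient.subsingleton_iff.2 rfl
    rw [Module.length_eq_zero, ENat.toNat_zero, pow_zero]

theorem tameSymbol_steinberg (a b : A) (ha : a ∈ A⁰) (hb : b ∈ A⁰) (hd : b - a ∈ A⁰) :
    CycAlg.tameSymbol A a (b - a) * CycAlg.tameSymbol A b b =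
      CycAlg.tameSymbol A b (b - a) * CycAlg.tameSymbol A a b := by
  by_cases hreg : ∃ c ∈ maximalIdeal A, c ∈ A⁰
  · classical
    obtain ⟨B, hB, π, v, e, hπ, hve⟩ := exists_system ⟨inferInstance, hreg⟩ ![a, b, b - a]
      (fun k => by fin_cases k <;> assumption)
    haveI := hB.2.1
    haveI := finite_maximalSpectrum A (B := (B : Type u))
    haveI := Fintype.ofFinite (MaximalSpectrum B)
    have h0 : ∀ q, algebraMap A (Loc q) a = (v q 0 : Loc q) * π q ^ e q 0 := fun q => hve q 0
    have h1 : ∀ q, algebraMap A (Loc q) b = (v q 1 : Loc q) * π q ^ e q 1 := fun q => hve q 1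
    have h2 : ∀ q, algebraMap A (Loc q) (b - a) = (v q 2 : Loc q) * π q ^ e q 2 := fun q => hve q 2
    rw [tameSymbol_eq_prod hB π hπ ha hd _ _ _ _ h0 h2, tameSymbol_eq_prod hB π hπ hb hb _ _ _ _ h1 h1,
      tameSymbol_eq_prod hB π hπ hb hd _ _ _ _ h1 h2, tameSymbol_eq_prod hB π hπ ha hb _ _ _ _ h0 h1,
      ← Finset.prod_mul_distrib, ← Finset.prod_mul_distrib]
    refine Finset.prod_congr rfl fun q _ => ?_
    haveI := isLocalHom_loc A q
    by_cases hu : IsUnit (π q)
    · rw [Ring.ord_of_isUnit hu, ENat.toNat_zero, pow_zero, pow_zero, pow_zero, pow_zero]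
    · rw [← mul_pow, ← mul_pow, normF_eq, normF_eq, normF_eq, normF_eq, ← map_mul, ← map_mul,
        ← Units.val_mul, ← Units.val_mul, steinberg_local (hπ q) hu _ _ _ _ _ _
          (by rw [← h1, ← h0, ← map_sub]; exact h2 q)]
  · have hua := forall_units hreg ha
    have hub := forall_units hreg hb
    have hud := forall_units hreg hd
    rw [tameSymbol_eq_one_of_units hua hud, tameSymbol_eq_one_of_units hub hub,
      tameSymbol_eq_one_of_units hub hud, tameSymbol_eq_one_of_units hua hub]

end Groth.Agent.TameLib
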