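import Groth.Agent.TameLib.FlatBound
import Groth.Agent.TameLib.DetLen
import Groth.Agent.TameLib.Laws

/-!
# Flat base change of tame symbols
-/

set_option autoImplicit false
set_option linter.style.haveILetI false
set_option linter.unusedSectionVars false
universe u

open IsLocalRing nonZeroDivisors TensorProduct

noncomputable section

namespace Groth.Agent.TameLib

variable {A A' : Type u} [CommRing A] [CommRing A'] [IsLocalRing A] [IsLocalRing A']
  [IsNoetherianRing A] [IsNoetherianRing A'] [Algebra A A'] [IsLocalHom (algebraMap A A')]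
  {B : Type u} [CommRing B] [Algebra A B] [Module.Finite A B]

/-- The inclusion of `B` into `A' ⊗ B`. -/
abbrev inclR : B →+* A' ⊗[A] B :=
  (Algebra.TensorProduct.includeRight (R := A) (A := A') (B := B)).toRingHom

theorem inclR_algebraMap (a : A) :
    inclR (A := A) (A' := A') (algebraMap A B a) = algebraMap A' (A' ⊗[A] B) (algebraMap A A' a) :=
  (AlgHom.commutes _ a).trans (IsScalarTower.algebraMap_apply A A' _ a)

theorem isMaximal_belowR (Q : MaximalSpectrum (A' ⊗[A] B)) :
    (Q.asIdeal.comap (inclR (A := A) (A' := A') (B := B))).IsMaximal := by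
  haveI := Q.isMaximal
  haveI : Algebra.IsIntegral A' (A' ⊗[A] B) := Algebra.IsIntegral.of_finite A' _
  haveI : Algebra.IsIntegral A B := Algebra.IsIntegral.of_finite A B
  haveI := Ideal.comap_isPrime (inclR (A := A) (A' := A') (B := B)) Q.asIdeal
  apply Ideal.isMaximal_of_isIntegral_of_isMaximal_comap (R := A)
  rw [Ideal.comap_comap, show (inclR (A := A) (A' := A') (B := B)).comp (algebraMap A B) =
      (algebraMap A' (A' ⊗[A] B)).comp (algebraMap A A') from RingHom.ext inclR_algebraMap,
    ← Ideal.comap_comap, IsLocalRing.eq_maximalIdeal (Ideal.isMaximal_comap_of_isIntegral_of_isMaximal Q.asIdeal)]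
  rw [IsLocalRing.maximalIdeal_comap]
  infer_instance

/-- The maximal ideal of `B` below one of `A' ⊗ B`. -/
def belowR (Q : MaximalSpectrum (A' ⊗[A] B)) : MaximalSpectrum B := ⟨_, isMaximal_belowR Q⟩

/-- The map of localisations. -/
def locR (Q : MaximalSpectrum (A' ⊗[A] B)) : Loc (belowR Q) →+* Loc Q :=
  Localization.localRingHom (belowR Q).asIdeal Q.asIdeal (inclR (A := A) (A' := A')) rfl

theorem locR_algebraMap (Q : MaximalSpectrum (A' ⊗[A] B)) (b : B) :
    locR Q (algebraMap B (Loc (belowR Q)) b) = algebraMap _ (Loc Q) (inclR (A := A) (A' := A') b) :=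
  Localization.localRingHom_to_map _ _ _ _ _

omit [IsLocalRing A] [IsLocalRing A'] [IsNoetherianRing A] [IsNoetherianRing A'] [IsLocalHom (algebraMap A A')] in
theorem mem_nonZeroDivisors_map [Module.Flat A A'] {r : A} (hr : r ∈ A⁰) : algebraMap A A' r ∈ A'⁰ :=
  mem_nonZeroDivisors_iff_right.2 fun x hx => by
    have hi : Function.Injective (LinearMap.lTensor A' (LinearMap.mulRight A r)) :=
      Module.Flat.lTensor_preserves_injective_linearMap _ fun u w huw => by
        have : (u - w) * r = 0 := by
          rw [sub_mul]; exact sub_eq_zero.2 huw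
        exact sub_eq_zero.1 (mem_nonZeroDivisors_iff_right.1 hr _ this)
    have h0 : LinearMap.lTensor A' (LinearMap.mulRight A r) (x ⊗ₜ 1) = 0 := by
      rw [LinearMap.lTensor_tmul, LinearMap.mulRight_apply, one_mul,
        show (r : A) = r • (1 : A) by rw [smul_eq_mul, mul_one], tmul_smul, smul_tmul',
        Algebra.smul_def, mul_comm, hx, zero_tmul]
    have := congrArg (TensorProduct.rid A A') (hi (h0.trans (map_zero _).symm))
    simpa using this

theorem sum_eq_sum_of_le {ι : Type*} [Fintype ι] {f g : ι → ℕ} (h : ∀ i, f i ≤ g i)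
    (he : ∑ i, f i = ∑ i, g i) (i : ι) : f i = g i :=
  (Finset.sum_eq_sum_iff_of_le (fun i _ => h i)).1 he i (Finset.mem_univ i)

variable [Module.Flat A A'] [Ring.KrullDimLE 1 A] [Fintype (MaximalSpectrum B)]
  [Fintype (MaximalSpectrum (A' ⊗[A] B))]

/-- The exponents and norms above one maximal ideal of `B`. -/
theorem prod_above {c : A} (hcm : c ∈ maximalIdeal A) {m : ℕ}
    (hm : Module.length A' (A' ⧸ (maximalIdeal A).map (algebraMap A A')) = m)
    (q : MaximalSpectrum B) (t : B) (htq : algebraMap B (Loc q) t ∈ (Loc q)⁰)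
    (hto : ∀ q' : MaximalSpectrum B, q' ≠ q → t ∉ q'.asIdeal) (y : B) :
    haveI := isLocalHom_loc A q
    haveI : ∀ Q : MaximalSpectrum (A' ⊗[A] B), IsLocalHom (algebraMap A' (Loc Q)) := isLocalHom_loc A'
    ∏ Q : MaximalSpectrum (A' ⊗[A] B), Algebra.norm (ResidueField A')
        (residue (Loc Q) (algebraMap _ (Loc Q) (inclR (A := A) (A' := A') y))) ^
          (Ring.ord (Loc Q) (algebraMap _ (Loc Q) (inclR (A := A) (A' := A') t))).toNat =
      ResidueField.map (algebraMap A A')
        (Algebra.norm (ResidueField A) (residue (Loc q) (algebraMap B (Loc q) y))) ^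
          ((Ring.ord (Loc q) (algebraMap B (Loc q) t)).toNat * m) := by
  classical
  haveI := isLocalHom_loc A q
  haveI hlocQ : ∀ Q : MaximalSpectrum (A' ⊗[A] B), IsLocalHom (algebraMap A' (Loc Q)) := isLocalHom_loc A'
  haveI := finite_residueField A q
  haveI := q.isMaximal
  let κ := ResidueField A
  let κ' := ResidueField A'
  let L := ResidueField (Loc q)
  let C := A' ⊗[A] B
  -- the special fibre above q
  let F := κ' ⊗[κ] L
  haveI : CompatibleSMul A κ κ' L := ⟨fun r x z => by
    obtain ⟨a, rfl⟩ := residue_surjective r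
    rw [← ResidueField.algebraMap_eq, algebraMap_smul, algebraMap_smul, smul_tmul]⟩
  let f : A' →ₐ[A'] κ' := Algebra.ofId A' κ'
  let g : B →ₐ[A] L := IsScalarTower.toAlgHom A B L
  have hf : Function.Surjective f := residue_surjective
  have hg : Function.Surjective g := Ideal.algebraMap_residueField_surjective q.asIdeal
  let e₀ : F ≃ₐ[A'] κ' ⊗[A] L := Algebra.TensorProduct.equivOfCompatibleSMul A κ A' κ' L
  let θ : C →ₐ[A'] F := e₀.symm.toAlgHom.comp (Algebra.TensorProduct.map f g)
  have hθ : Function.Surjective θ :=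
    e₀.symm.surjective.comp (Algebra.TensorProduct.map_surjective _ _ hf hg)
  let J : Ideal C := (maximalIdeal A').map (algebraMap A' C) ⊔ q.asIdeal.map (inclR (A := A) (A' := A'))
  have hkerθ : RingHom.ker θ = J := by
    have h1 : RingHom.ker θ = RingHom.ker (Algebra.TensorProduct.map f g) := by
      ext x
      simp only [RingHom.mem_ker, θ, AlgHom.comp_apply]
      exact e₀.symm.map_eq_zero_iff
    have hkf : RingHom.ker f = maximalIdeal A' := IsLocalRing.ker_residue
    have hkg : RingHom.ker g = q.asIdeal := Ideal.ker_algebraMap_residueField q.asIdeal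
    rw [h1, Algebra.TensorProduct.map_ker f g hf hg, hkf, hkg]
    rfl
  letI : Algebra C F := θ.toRingHom.toAlgebra
  haveI : IsScalarTower A' C F := IsScalarTower.of_algebraMap_eq fun z => (θ.commutes z).symm
  let gF : C →ₗ[C] F := Algebra.linearMap C F
  have hgF : LinearMap.ker gF = J := by rw [← hkerθ]; rfl
  haveI : Module.Finite κ' F := inferInstance
  have hFlen : Module.length A' F = (deg A q : ℕ∞) := by
    rw [Module.length_eq_of_surjective (R := κ') residue_surjective, Module.length_eq_finrank,
      Module.finrank_baseChange]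
    rfl
  have hFfin : IsFiniteLength C F := isFiniteLength_of_tower A' (by rw [hFlen]; exact ENat.coe_ne_top _)
  obtain ⟨hefin, hdet⟩ := detS_eq_prod A' (inclR (A := A) (A' := A') y) hFfin
  let e : MaximalSpectrum C → ℕ := fun Q =>
    (Module.length (Loc Q) (LocalizedModule Q.asIdeal.primeCompl F)).toNat
  have hsumF : deg A q = ∑ Q : MaximalSpectrum C, deg A' Q * e Q := by
    have h := hFlen.symm.trans (length_eq_sum A' hFfin)
    have h2 : (deg A q : ℕ∞) = ((∑ Q : MaximalSpectrum C, deg A' Q * e Q : ℕ) : ℕ∞) := by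
      rw [h, Nat.cast_sum]
      refine Finset.sum_congr rfl fun Q _ => ?_
      rw [Nat.cast_mul, ENat.coe_toNat (hefin Q)]
    exact_mod_cast h2
  -- the exponent of t
  let o := (Ring.ord (Loc q) (algebraMap B (Loc q) t)).toNat
  haveI := isNoetherianRing_of_finite A (B := B)
  haveI := krullDimLE_loc A q
  haveI : IsNoetherianRing (Loc q) := IsLocalization.isNoetherianRing q.asIdeal.primeCompl _ inferInstance
  have ho : Ring.ord (Loc q) (algebraMap B (Loc q) t) = (o : ℕ∞) := (ENat.coe_toNat (by
    rw [Ring.ord, Module.length_ne_top_iff]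
    exact isFiniteLength_quotient_span_singleton _ htq)).symm
  let T : C := inclR (A := A) (A' := A') t
  have hT : Ideal.span {T} = (Ideal.span {t}).map (inclR (A := A) (A' := A')) := by
    rw [Ideal.map_span, Set.image_singleton]
  have htot : Module.length A' (C ⧸ Ideal.span {T}) = ((deg A q * o * m : ℕ) : ℕ∞) := by
    let π₁ : B →ₐ[A] (B ⧸ Ideal.span {t}) := Ideal.Quotient.mkₐ A (Ideal.span {t})
    let g₁ : C →ₐ[A'] A' ⊗[A] (B ⧸ Ideal.span {t}) := Algebra.TensorProduct.map (AlgHom.id A' A') π₁
    have hg₁ : Function.Surjective g₁ :=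
      Algebra.TensorProduct.map_surjective _ _ Function.surjective_id Ideal.Quotient.mk_surjective
    have hk₁ : RingHom.ker g₁ = Ideal.span {T} := by
      have h1 : RingHom.ker (AlgHom.id A' A') = ⊥ :=
        (RingHom.injective_iff_ker_eq_bot _).1 Function.injective_id
      have h2 : RingHom.ker π₁ = Ideal.span {t} := Ideal.Quotient.mkₐ_ker A _
      rw [Algebra.TensorProduct.map_ker (AlgHom.id A' A') π₁ Function.surjective_id
        Ideal.Quotient.mk_surjective, h1, h2, Ideal.map_bot, bot_sup_eq, hT]
      rfl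
    let e₁ : (C ⧸ Ideal.span {T}) ≃ₐ[A'] A' ⊗[A] (B ⧸ Ideal.span {t}) :=
      (Ideal.quotientEquivAlgOfEq A' hk₁.symm).trans (Ideal.quotientKerAlgEquivOfSurjective hg₁)
    have hBlen : Module.length A (B ⧸ Ideal.span {t}) = ((deg A q * o : ℕ) : ℕ∞) := by
      haveI : IsFiniteLength B (B ⧸ Ideal.span {t}) := by
        haveI := krullDimLE_of_finite A (B := B)
        exact isFiniteLength_quotient_span_singleton _ (mem_nonZeroDivisors_of_supported q htq hto)
      rw [length_quot_span A t this, Finset.sum_eq_single q, ho, Nat.cast_mul]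
      · intro q' _ hq'
        rw [Ring.ord_of_isUnit (IsLocalization.map_units (Loc q') (⟨t, hto q' hq'⟩ : q'.asIdeal.primeCompl)),
          mul_zero]
      · exact fun h => absurd (Finset.mem_univ _) h
    rw [e₁.toLinearEquiv.length_eq, IsLocalRing.length_baseChange A A' (B ⧸ Ideal.span {t}), hBlen, hm,
      Nat.cast_mul (deg A q * o) m]
  have hCfin : IsFiniteLength C (C ⧸ Ideal.span {T}) :=
    isFiniteLength_of_tower A' (by rw [htot]; exact ENat.coe_ne_top _)
  let n : MaximalSpectrum C → ℕ∞ := fun Q => Ring.ord (Loc Q) (algebraMap C (Loc Q) T)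
  have hsumC : (∑ Q : MaximalSpectrum C, (deg A' Q : ℕ∞) * n Q) = ((deg A q * o * m : ℕ) : ℕ∞) :=
    (length_quot_span A' T hCfin).symm.trans htot
  have hle : ∀ Q : MaximalSpectrum C, n Q ≤ ((o * m * e Q : ℕ) : ℕ∞) := by
    intro Q
    by_cases hq : belowR Q = q
    · subst hq
      let S := Loc Q
      let φ : Loc (belowR Q) →+* S := locR Q
      haveI : IsArtinianRing (Loc (belowR Q) ⧸ Ideal.span {algebraMap B (Loc (belowR Q)) t}) := by
        have := isFiniteLength_quotient_span_singleton (R := Loc (belowR Q)) htq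
        rw [isFiniteLength_iff_isNoetherian_isArtinian] at this
        exact isArtinian_of_tower (Loc (belowR Q)) this.2
      have h1 := length_quot_sup_map_le φ (⊥ : Ideal S) _
        (exists_maximalIdeal_pow_le_of_isArtinianRing_quotient
          (Ideal.span {algebraMap B (Loc (belowR Q)) t}))
      rw [bot_sup_eq, bot_sup_eq, Ideal.map_span, Set.image_singleton, locR_algebraMap] at h1
      let K : Ideal S := (maximalIdeal (Loc (belowR Q))).map φ
      have hK : K = ((belowR Q).asIdeal.map (inclR (A := A) (A' := A'))).map (algebraMap C S) := by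
        show Ideal.map φ _ = _
        rw [← Localization.AtPrime.map_eq_maximalIdeal, Ideal.map_map, Ideal.map_map]
        congr 1
        exact RingHom.ext fun b => locR_algebraMap Q b
      let fA : A' →+* S := algebraMap A' S
      have hJfin : ∃ k, maximalIdeal A' ^ k ≤ (maximalIdeal A).map (algebraMap A A') := by
        haveI : IsArtinianRing (A' ⧸ (maximalIdeal A).map (algebraMap A A')) := by
          have hfl := (Module.length_ne_top_iff (R := A')
            (M := A' ⧸ (maximalIdeal A).map (algebraMap A A'))).1 (by rw [hm]; exact ENat.coe_ne_top _)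
          rw [isFiniteLength_iff_isNoetherian_isArtinian] at hfl
          exact isArtinian_of_tower A' hfl.2
        exact exists_maximalIdeal_pow_le_of_isArtinianRing_quotient _
      have h2 := length_quot_sup_map_le fA K _ hJfin
      have hmK : Ideal.map fA ((maximalIdeal A).map (algebraMap A A')) ≤ K := by
        rw [hK, Ideal.map_map, Ideal.map_map, Ideal.map_le_iff_le_comap]
        intro a ha
        have haq : algebraMap A B a ∈ (belowR Q).asIdeal := by
          rw [← Ideal.mem_comap]
          haveI : Algebra.IsIntegral A B := Algebra.IsIntegral.of_finite A B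
          rw [IsLocalRing.eq_maximalIdeal (Ideal.isMaximal_comap_of_isIntegral_of_isMaximal
            (belowR Q).asIdeal)]
          exact ha
        have := Ideal.mem_map_of_mem ((algebraMap C S).comp (inclR (A := A) (A' := A'))) haq
        rw [Ideal.mem_comap]
        show fA (algebraMap A A' a) ∈ _
        rw [RingHom.comp_apply] at this
        erw [inclR_algebraMap (A' := A') a] at this
        rwa [← IsScalarTower.algebraMap_apply] at this
      rw [sup_eq_left.2 hmK, hm] at h2
      have hJmap : K ⊔ Ideal.map fA (maximalIdeal A') = J.map (algebraMap C S) := by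
        rw [Ideal.map_sup, Ideal.map_map, hK, sup_comm, ← IsScalarTower.algebraMap_eq]
      have he : Module.length S (S ⧸ J.map (algebraMap C S)) = (e Q : ℕ∞) := by
        rw [← hgF, ← length_loc_of_surjective gF hθ Q]
        exact (ENat.coe_toNat (hefin Q)).symm
      rw [hJmap, he] at h2
      have ho' : Module.length (Loc (belowR Q))
          (Loc (belowR Q) ⧸ Ideal.span {algebraMap B (Loc (belowR Q)) t}) = (o : ℕ∞) := ho
      rw [ho'] at h1
      calc n Q ≤ (o : ℕ∞) * Module.length S (S ⧸ K) := h1
        _ ≤ (o : ℕ∞) * ((m : ℕ∞) * (e Q : ℕ∞)) := by gcongr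
        _ = _ := by push_cast; ring
    · have hu : IsUnit (algebraMap C (Loc Q) T) :=
        IsLocalization.map_units (Loc Q) (⟨T, hto (belowR Q) hq⟩ : Q.asIdeal.primeCompl)
      show Ring.ord _ _ ≤ _
      rw [Ring.ord_of_isUnit hu]
      exact zero_le
  have hfin : ∀ Q, n Q ≠ ⊤ := fun Q => ne_top_of_le_ne_top (ENat.coe_ne_top _) (hle Q)
  have hnat : ∑ Q : MaximalSpectrum C, deg A' Q * (n Q).toNat =
      ∑ Q : MaximalSpectrum C, deg A' Q * (o * m * e Q) := by
    have h2 : ((∑ Q : MaximalSpectrum C, deg A' Q * (n Q).toNat : ℕ) : ℕ∞) =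
        ((deg A q * o * m : ℕ) : ℕ∞) := by
      rw [Nat.cast_sum, ← hsumC]
      refine Finset.sum_congr rfl fun Q _ => ?_
      rw [Nat.cast_mul, ENat.coe_toNat (hfin Q)]
    have h3 : (∑ Q : MaximalSpectrum C, deg A' Q * (n Q).toNat) = deg A q * o * m := by exact_mod_cast h2
    rw [h3, hsumF, Finset.sum_mul, Finset.sum_mul]
    exact Finset.sum_congr rfl fun Q _ => by ring
  have hle' : ∀ Q, (n Q).toNat ≤ o * m * e Q := fun Q =>
    ENat.toNat_le_of_le_coe (hle Q)
  have heq : ∀ Q, (n Q).toNat = o * m * e Q := fun Q =>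
    Nat.eq_of_mul_eq_mul_left (deg_pos A' Q)
      (sum_eq_sum_of_le (fun Q => Nat.mul_le_mul_left _ (hle' Q)) hnat Q)
  show ∏ Q : MaximalSpectrum C, _ ^ (n Q).toNat = _ ^ (o * m)
  simp only [heq, mul_comm (o * m), pow_mul]
  rw [Finset.prod_pow, Finset.prod_pow]
  congr 2
  refine hdet.symm.trans ?_
  let z : L := residue (Loc q) (algebraMap B (Loc q) y)
  rw [Algebra.norm_apply]
  refine Eq.trans ?_ (LinearMap.det_baseChange (A := κ') (Algebra.lmul κ L z))
  unfold detS
  congr 1
  apply TensorProduct.AlgebraTensorModule.ext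
  intro a b
  show inclR (A := A) (A' := A') y • (a ⊗ₜ[κ] b) = a ⊗ₜ[κ] (z * b)
  rw [Algebra.smul_def]
  show θ (inclR (A := A) (A' := A') y) * (a ⊗ₜ[κ] b) = _
  have : θ (inclR (A := A) (A' := A') y) = (1 : κ') ⊗ₜ[κ] z := by
    show e₀.symm (Algebra.TensorProduct.map f g ((1 : A') ⊗ₜ[A] y)) = _
    rw [AlgEquiv.symm_apply_eq, Algebra.TensorProduct.map_tmul, map_one]
    rfl
  rw [this, Algebra.TensorProduct.tmul_mul_tmul, one_mul]

/-- Flat base change of tame symbols, computed from one system of factorisations. -/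
theorem baseChange_core {c : A} (hcm : c ∈ maximalIdeal A) (hc : c ∈ A⁰) [Ring.KrullDimLE 1 A']
    (hB : CycAlg.IsFinExt A B (maximalIdeal A)) {m : ℕ}
    (hm : Module.length A' (A' ⧸ (maximalIdeal A).map (algebraMap A A')) = m)
    (a b : A) (ha : a ∈ A⁰) (hb : b ∈ A⁰)
    (π : ∀ q : MaximalSpectrum B, Loc q) (hπ : ∀ q, π q ∈ (Loc q)⁰)
    (v : ∀ q : MaximalSpectrum B, Fin 2 → (Loc q)ˣ) (e : MaximalSpectrum B → Fin 2 → ℕ)
    (hve : ∀ q k, algebraMap A (Loc q) (![a, b] k) = (v q k : Loc q) * π q ^ e q k) :
    ResidueField.map (algebraMap A A') (CycAlg.tameSymbol A a b) ^ m =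
      CycAlg.tameSymbol A' (algebraMap A A' a) (algebraMap A A' b) := by
  classical
  have hreg : ∀ r ∈ A⁰, algebraMap A A' r ∈ A'⁰ := fun r hr => mem_nonZeroDivisors_map hr
  -- supported parameters
  have hsupp := fun q => exists_supported A q (hπ q)
  choose t hassoc hto using hsupp
  have htq : ∀ q, algebraMap B (Loc q) (t q) ∈ (Loc q)⁰ := fun q => by
    obtain ⟨w, hw⟩ := hassoc q
    rw [← hw]
    exact mul_mem (hπ q) w.isUnit.mem_nonZeroDivisors
  choose w hw using hassoc
  let v' : ∀ q : MaximalSpectrum B, Fin 2 → (Loc q)ˣ := fun q k => v q k * (w q)⁻¹ ^ e q k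
  have hve' : ∀ q k, algebraMap A (Loc q) (![a, b] k) =
      (v' q k : Loc q) * algebraMap B (Loc q) (t q) ^ e q k := fun q k => by
    rw [hve, ← hw, mul_pow, Units.val_mul, Units.val_pow_eq_pow_val]
    rw [show (v q k : Loc q) * ((w q)⁻¹ : (Loc q)ˣ) ^ e q k * (π q ^ e q k * (w q : Loc q) ^ e q k) =
      (v q k : Loc q) * π q ^ e q k * (((w q)⁻¹ : (Loc q)ˣ) * (w q : Loc q)) ^ e q k by ring,
      Units.inv_mul, one_pow, mul_one]
  -- the base changed extension
  let C := A' ⊗[A] B
  have hC : CycAlg.IsFinExt A' C (maximalIdeal A') := by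
    obtain ⟨N, hN⟩ := hB.2.2
    haveI : IsArtinianRing (A' ⧸ Ideal.span {algebraMap A A' (c ^ N)}) := by
      have := isFiniteLength_quotient_span_singleton (R := A') (hreg _ (pow_mem hc N))
      rw [isFiniteLength_iff_isNoetherian_isArtinian] at this
      exact isArtinian_of_tower A' this.2
    obtain ⟨K, hK⟩ := exists_maximalIdeal_pow_le_of_isArtinianRing_quotient
      (Ideal.span {algebraMap A A' (c ^ N)})
    refine ⟨?_, inferInstance, K, fun r hr z => ?_⟩
    · exact Algebra.TensorProduct.includeLeft_injective (S := A') hB.1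
    · obtain ⟨d, rfl⟩ := Ideal.mem_span_singleton'.1 (hK hr)
      induction z using TensorProduct.induction_on with
      | zero => exact ⟨0, by rw [map_zero, smul_zero]⟩
      | add x y hx hy =>
        obtain ⟨x', hx'⟩ := hx
        obtain ⟨y', hy'⟩ := hy
        exact ⟨x' + y', by rw [map_add, hx', hy', smul_add]⟩
      | tmul x z =>
        obtain ⟨a', ha'⟩ := hN (c ^ N) (Ideal.pow_mem_pow hcm N) z
        refine ⟨d * x * algebraMap A A' a', ?_⟩
        have e1 : (d * x * algebraMap A A' a') ⊗ₜ[A] (1 : B) = (d * x) ⊗ₜ[A] algebraMap A B a' := by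
          rw [Algebra.algebraMap_eq_smul_one (A := B), ← smul_tmul, Algebra.smul_def, mul_comm]
        have e2 : (d * algebraMap A A' (c ^ N)) • x ⊗ₜ[A] z = (d * x) ⊗ₜ[A] ((c ^ N) • z) := by
          rw [smul_tmul', smul_eq_mul, ← smul_tmul, Algebra.smul_def]
          congr 1; ring
        rw [Algebra.TensorProduct.algebraMap_apply, Algebra.algebraMap_self, RingHom.id_apply, e1, e2, ha']
  have hTreg : ∀ Q : MaximalSpectrum C, algebraMap C (Loc Q) (inclR (A := A) (A' := A') (t (belowR Q))) ∈ (Loc Q)⁰ := by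
    intro Q
    refine IsLocalization.map_nonZeroDivisors_le Q.asIdeal.primeCompl (Loc Q) ⟨_, ?_, rfl⟩
    have htB := mem_nonZeroDivisors_of_supported (belowR Q) (htq _) (hto _)
    have hinj : Function.Injective (LinearMap.lTensor A' (LinearMap.mulLeft A (t (belowR Q)))) :=
      Module.Flat.lTensor_preserves_injective_linearMap _ fun u w huw => by
        have : (u - w) * t (belowR Q) = 0 := by
          rw [sub_mul, mul_comm u, mul_comm w]; exact sub_eq_zero.2 huw
        exact sub_eq_zero.1 (mem_nonZeroDivisors_iff_right.1 htB _ this)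
    refine mem_nonZeroDivisors_iff_left.2 fun x hx => hinj ?_
    rw [map_zero, ← hx]
    clear hx
    induction x using TensorProduct.induction_on with
    | zero => rw [map_zero, mul_zero]
    | add x y hx hy => rw [map_add, mul_add, hx, hy]
    | tmul x z =>
      show x ⊗ₜ[A] (t (belowR Q) * z) = ((1 : A') ⊗ₜ[A] t (belowR Q)) * (x ⊗ₜ[A] z)
      rw [Algebra.TensorProduct.tmul_mul_tmul, one_mul]
  have hfacC : ∀ Q : MaximalSpectrum C, ∀ k, algebraMap A' (Loc Q) (algebraMap A A' (![a, b] k)) =
      (Units.map (locR Q : Loc (belowR Q) →* Loc Q) (v' (belowR Q) k) : Loc Q) *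
        algebraMap C (Loc Q) (inclR (A := A) (A' := A') (t (belowR Q))) ^ e (belowR Q) k := by
    intro Q k
    have h := congrArg (locR Q) (hve' (belowR Q) k)
    rw [map_mul, map_pow, locR_algebraMap, IsScalarTower.algebraMap_apply A B (Loc (belowR Q)),
      locR_algebraMap, inclR_algebraMap, ← IsScalarTower.algebraMap_apply A' C (Loc Q)] at h
    exact h
  rw [tameSymbol_eq_prod hC _ hTreg (hreg a ha) (hreg b hb) _ _ _ _
      (fun Q => hfacC Q 0) (fun Q => hfacC Q 1),
    tameSymbol_eq_prod hB (fun q => algebraMap B (Loc q) (t q)) htq ha hb (fun q => v' q 0) (fun q => v' q 1)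
      (fun q => e q 0) (fun q => e q 1) (fun q => hve' q 0) (fun q => hve' q 1),
    map_prod, ← Finset.prod_pow]
  have hy : ∀ q : MaximalSpectrum B, ∃ y : B, residue (Loc q) (algebraMap B (Loc q) y) =
      zed (v' q 0) (v' q 1) (e q 0) (e q 1) := fun q => by
    haveI := q.isMaximal
    exact Ideal.algebraMap_residueField_surjective q.asIdeal _
  choose y hy using hy
  simp only [map_pow, ← pow_mul]
  haveI hlocQ : ∀ Q : MaximalSpectrum C, IsLocalHom (algebraMap A' (Loc Q)) := isLocalHom_loc A'
  haveI hlocq : ∀ q : MaximalSpectrum B, IsLocalHom (algebraMap A (Loc q)) := isLocalHom_loc A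
  calc ∏ q : MaximalSpectrum B, ResidueField.map (algebraMap A A')
        (normF A q (v' q 0) (v' q 1) (e q 0) (e q 1)) ^
          ((Ring.ord (Loc q) (algebraMap B (Loc q) (t q))).toNat * m)
      = ∏ q : MaximalSpectrum B, ∏ Q : MaximalSpectrum C, Algebra.norm (ResidueField A')
          (residue (Loc Q) (algebraMap _ (Loc Q) (inclR (A := A) (A' := A') (y q)))) ^
            (Ring.ord (Loc Q) (algebraMap _ (Loc Q) (inclR (A := A) (A' := A') (t q)))).toNat :=
        Finset.prod_congr rfl fun q _ => by
          rw [prod_above (A' := A') hcm hm q (t q) (htq q) (hto q) (y q), hy]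
          rfl
    _ = _ := by
        rw [Finset.prod_comm]
        refine Finset.prod_congr rfl fun Q _ => ?_
        rw [Finset.prod_eq_single (belowR Q)]
        · congr 1
          rw [normF, ← locR_algebraMap Q (y (belowR Q))]
          congr 1
          haveI : IsLocalHom (locR Q) := Localization.isLocalHom_localRingHom ..
          have h := congrArg (ResidueField.map (locR Q)) (hy (belowR Q))
          rw [ResidueField.map_residue] at h
          rw [h, zed_eq, zed_eq]
          simp only [map_mul, map_pow, map_inv₀, map_neg, map_one, ResidueField.map_residue]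
          rfl
        · intro q _ hq
          rw [Ring.ord_of_isUnit (IsLocalization.map_units (Loc Q)
            (⟨inclR (A := A) (A' := A') (t q), hto q (belowR Q) hq.symm⟩ : Q.asIdeal.primeCompl)),
            ENat.toNat_zero, pow_zero]
        · exact fun h => absurd (Finset.mem_univ _) h

omit [Module.Finite A B] [Fintype (MaximalSpectrum B)] [Fintype (MaximalSpectrum (A' ⊗[A] B))] in
theorem tameSymbol_flat [Ring.KrullDimLE 1 A'] (a b : A) (ha : a ∈ A⁰) (hb : b ∈ A⁰) :
    ResidueField.map (algebraMap A A') (CycAlg.tameSymbol A a b) ^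
        (Module.length A' (A' ⧸ (maximalIdeal A).map (algebraMap A A'))).toNat =
      CycAlg.tameSymbol A' (algebraMap A A' a) (algebraMap A A' b) := by
  classical
  by_cases hu : IsUnit a ∧ IsUnit b
  · rw [tameSymbol_eq_one_of_units hu.1 hu.2, tameSymbol_eq_one_of_units (hu.1.map _) (hu.2.map _),
      map_one, one_pow]
  obtain ⟨c, hcm, hc⟩ : ∃ c ∈ maximalIdeal A, c ∈ A⁰ :=
    (not_and_or.1 hu).elim (fun h => ⟨a, h, ha⟩) (fun h => ⟨b, h, hb⟩)
  obtain ⟨B, hB, π, v, e, hπ, hve⟩ := exists_system ⟨inferInstance, c, hcm, hc⟩ ![a, b]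
    (Fin.forall_fin_two.2 ⟨ha, hb⟩)
  haveI := hB.2.1
  haveI := finite_maximalSpectrum A (B := (B : Type u))
  haveI := Fintype.ofFinite (MaximalSpectrum B)
  haveI := finite_maximalSpectrum A' (B := A' ⊗[A] (B : Type u))
  haveI := Fintype.ofFinite (MaximalSpectrum (A' ⊗[A] (B : Type u)))
  have hfin : Module.length A' (A' ⧸ (maximalIdeal A).map (algebraMap A A')) ≠ ⊤ := by
    refine ne_top_of_le_ne_top (Module.length_ne_top_iff.2
      (isFiniteLength_quotient_span_singleton (R := A') (mem_nonZeroDivisors_map hc))) ?_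
    refine Module.length_le_of_surjective (Submodule.factor ?_) (Submodule.factor_surjective _)
    rw [Ideal.span_le, Set.singleton_subset_iff]
    exact Ideal.mem_map_of_mem _ hcm
  exact baseChange_core hcm hc hB (ENat.coe_toNat hfin).symm a b ha hb π hπ v e hve

end Groth.Agent.TameLib
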