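import Groth.Agent.TameLib.Galois
import Groth.Agent.NormalTensor.Henselian

/-!
# Galois extensions of strictly henselian discrete valuation rings are totally inertial
-/

set_option autoImplicit false
set_option linter.style.haveILetI false
universe u
open IsLocalRing

namespace Groth.Agent.TameLib

theorem inertAt_of_henselian (R K M : Type u) [CommRing R] [IsDomain R] [IsDiscreteValuationRing R]
    [HenselianLocalRing R] [IsSepClosed (ResidueField R)] [Field K] [Algebra R K] [IsFractionRing R K] [Field M]
    [Algebra K M] [Algebra R M] [IsScalarTower R K M] [FiniteDimensional K M] [IsGalois K M] :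
    InertAt R K M := by
  let B := integralClosure R M
  haveI : Module.Finite R B := IsIntegralClosure.finite R K M B
  haveI : IsLocalRing B := NormalTensor.isLocalRing_of_finite_domain R B
  let m := maximalIdeal B
  haveI : FaithfulSMul R B := (faithfulSMul_iff_algebraMap_injective R B).2 (by
    refine Function.Injective.of_comp (f := algebraMap B M) ?_
    rw [← RingHom.coe_comp, ← IsScalarTower.algebraMap_eq R B M, IsScalarTower.algebraMap_eq R K M]
    exact (algebraMap K M).injective.comp (IsFractionRing.injective R K))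
  have hp : m.comap (algebraMap R B) = maximalIdeal R :=
    IsLocalRing.eq_maximalIdeal (Ideal.isMaximal_comap_of_isIntegral_of_isMaximal m)
  haveI : m.LiesOver (maximalIdeal R) := ⟨hp.symm⟩
  refine ⟨m, inferInstance, fun h => IsDiscreteValuationRing.not_a_field R (by
    rw [← hp, h, Ideal.comap_bot_of_injective _ (FaithfulSMul.algebraMap_injective R B)]), ?_⟩
  intro σ b b' hb
  letI : Field (R ⧸ maximalIdeal R) := Ideal.Quotient.field _
  haveI : IsSepClosed (R ⧸ maximalIdeal R) := ‹IsSepClosed (ResidueField R)›
  letI : Field (B ⧸ m) := Ideal.Quotient.field m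
  haveI : Algebra.IsIntegral (R ⧸ maximalIdeal R) (B ⧸ m) := Algebra.IsIntegral.of_finite _ _
  obtain ⟨q, hq⟩ := ExpChar.exists (R ⧸ maximalIdeal R)
  haveI : ExpChar (B ⧸ m) q := expChar_of_injective_algebraMap (algebraMap (R ⧸ maximalIdeal R) (B ⧸ m)).injective q
  obtain ⟨n, a, ha⟩ := IsPurelyInseparable.pow_mem (R ⧸ maximalIdeal R) q (Ideal.Quotient.mk m b)
  obtain ⟨a, rfl⟩ := Ideal.Quotient.mk_surjective a
  replace ha : b ^ q ^ n - algebraMap R B a ∈ m := by
    rw [← Ideal.Quotient.eq, map_pow, ← ha]
    rfl
  let τ : B ≃ₐ[R] B := galRestrict R K M B σ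
  have hb' : b' = τ b := Subtype.ext (by
    rw [hb]
    exact (algebraMap_galRestrict_apply R σ b).symm)
  have hτ : b' ^ q ^ n - algebraMap R B a ∈ m := by
    rw [hb', ← map_pow τ b, ← τ.commutes a, ← map_sub τ]
    exact fun hu => ha (by simpa using hu.map τ.symm)
  rw [← Ideal.Quotient.eq]
  refine iterateFrobenius_inj (B ⧸ m) q n ?_
  rw [iterateFrobenius_def, iterateFrobenius_def, ← map_pow, ← map_pow, Ideal.Quotient.eq.2 hτ, Ideal.Quotient.eq.2 ha]

end Groth.Agent.TameLib
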