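import Groth.Agent.TameLib.Galois

/-!
# Tame inertia in an infinite Galois group
-/

set_option autoImplicit false
set_option linter.style.haveILetI false
set_option maxHeartbeats 1000000
universe u

namespace Groth.Agent.TameLib

variable (R : Type u) {K Ω : Type u} [CommRing R] [IsDomain R] [IsDiscreteValuationRing R] [Field K]
  [Algebra R K] [IsFractionRing R K] [Field Ω] [Algebra K Ω] [IsGalois K Ω] [Algebra R Ω] [IsScalarTower R K Ω]

/-- An automorphism fixing an `r`-th root of a uniformizer is a product of two `r`-th powers. -/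
theorem exists_pow_mul_pow_algEquiv
    (hI : ∀ M : FiniteGaloisIntermediateField K Ω, InertAt R K M.toIntermediateField)
    {r : ℕ} (hr : IsUnit (r : R)) {ϖ : R} (hϖ : Irreducible ϖ) {ρ : Ω} (hρ : ρ ^ r = algebraMap R Ω ϖ)
    {ζ : Ω} (hζ : IsPrimitiveRoot ζ r) {h : Ω ≃ₐ[K] Ω} (hh : h ρ = ρ) :
    ∃ a b : Ω ≃ₐ[K] Ω, a ^ r * b ^ r = h := by
  let F : (Ω ≃ₐ[K] Ω) × (Ω ≃ₐ[K] Ω) → (Ω ≃ₐ[K] Ω) := fun ab => h⁻¹ * (ab.1 ^ r * ab.2 ^ r)
  have hF : Continuous F := continuous_const.mul ((continuous_fst.pow r).mul (continuous_snd.pow r))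
  let t : FiniteGaloisIntermediateField K Ω → Set ((Ω ≃ₐ[K] Ω) × (Ω ≃ₐ[K] Ω)) := fun M =>
    F ⁻¹' M.toIntermediateField.fixingSubgroup
  have hmem : ∀ {M : FiniteGaloisIntermediateField K Ω} {ab}, ab ∈ t M ↔ ∀ x ∈ M.toIntermediateField, F ab x = x :=
    fun {M ab} => IntermediateField.mem_fixingSubgroup_iff _ _
  have hmono : ∀ {M M' : FiniteGaloisIntermediateField K Ω}, M ≤ M' → t M' ⊆ t M :=
    fun {M M'} hMM ab hab => hmem.2 fun x hx => hmem.1 hab x ((FiniteGaloisIntermediateField.le_iff M M').1 hMM hx)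
  have hne : ∀ M, (t M).Nonempty := by
    intro M₀
    let M := M₀ ⊔ FiniteGaloisIntermediateField.adjoin K {ρ, ζ}
    have hsub : ({ρ, ζ} : Set Ω) ⊆ M.toIntermediateField :=
      (FiniteGaloisIntermediateField.subset_adjoin K {ρ, ζ}).trans
        ((FiniteGaloisIntermediateField.le_iff _ _).1 le_sup_right)
    let L := M.toIntermediateField
    let ρ' : L := ⟨ρ, hsub (Set.mem_insert _ _)⟩
    let ζ' : L := ⟨ζ, hsub (Set.mem_insert_of_mem _ rfl)⟩
    obtain ⟨a, b, hab⟩ := exists_pow_mul_pow_of_fixed (R := R) (K := K) (M := L) hϖ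
      (ρ := ρ') (Subtype.ext hρ) (hI M) hr (ζ := ζ')
      (hζ.of_map_of_injective (f := L.val) L.val.injective) (h := h.restrictNormal L) (Subtype.ext (by
        exact (AlgEquiv.restrictNormal_commutes h L ρ').trans hh))
    refine ⟨(a.liftNormal Ω, b.liftNormal Ω), hmono (le_sup_left : M₀ ≤ M) (hmem.2 fun x hx => ?_)⟩
    show h⁻¹ ((a.liftNormal Ω ^ r * b.liftNormal Ω ^ r) x) = x
    have key : AlgEquiv.restrictNormalHom L (a.liftNormal Ω ^ r * b.liftNormal Ω ^ r) = h.restrictNormal L := by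
      rw [map_mul, map_pow, map_pow]
      show (a.liftNormal Ω).restrictNormal L ^ r * (b.liftNormal Ω).restrictNormal L ^ r = _
      rw [AlgEquiv.restrict_liftNormal, AlgEquiv.restrict_liftNormal, hab]
    have h1 : (a.liftNormal Ω ^ r * b.liftNormal Ω ^ r) x = h x := by
      have e1 := AlgEquiv.restrictNormal_commutes (a.liftNormal Ω ^ r * b.liftNormal Ω ^ r) L ⟨x, hx⟩
      have e2 := AlgEquiv.restrictNormal_commutes h L ⟨x, hx⟩
      rw [show (a.liftNormal Ω ^ r * b.liftNormal Ω ^ r).restrictNormal L = h.restrictNormal L from key] at e1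
      exact e1.symm.trans e2
    rw [h1]
    exact h.symm_apply_apply x
  have hcl : ∀ M, IsClosed (t M) := fun M => (M.toIntermediateField.fixingSubgroup_isClosed).preimage hF
  obtain ⟨ab, hab⟩ := IsCompact.nonempty_iInter_of_directed_nonempty_isCompact_isClosed t
    (fun M M' => ⟨M ⊔ M', hmono le_sup_left, hmono le_sup_right⟩) hne (fun M => (hcl M).isCompact) hcl
  refine ⟨ab.1, ab.2, AlgEquiv.ext fun x => ?_⟩
  have h1 : F ab x = x := hmem.1 (Set.mem_iInter.1 hab (FiniteGaloisIntermediateField.adjoin K {x})) x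
    (FiniteGaloisIntermediateField.subset_adjoin K {x} rfl)
  have h2 := congrArg h h1
  simp only [F, AlgEquiv.mul_apply] at h2
  rwa [show ∀ y, h (h⁻¹ y) = y from h.apply_symm_apply] at h2

end Groth.Agent.TameLib
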