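import Groth.Agent.TameLib.Normalize

/-!
# Existence of common factors and of local factorisations in finite extensions
-/

set_option autoImplicit false
set_option linter.style.haveILetI false
set_option linter.unusedSectionVars false
universe u

open IsLocalRing nonZeroDivisors

noncomputable section

namespace Groth.Agent.TameLib

/-- Associatedness is tested componentwise. -/
theorem associated_pi {ι : Type*} {A : ι → Type*} [∀ i, CommMonoid (A i)] {x y : ∀ i, A i}
    (h : ∀ i, Associated (x i) (y i)) : Associated x y := by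
  choose w hw using h
  exact ⟨MulEquiv.piUnits.symm w, funext hw⟩

/-- A factorisation into the generators of the finitely many maximal ideals of a principal ideal domain. -/
theorem exists_associated_prod {D : Type*} [CommRing D] [IsDomain D] [IsPrincipalIdealRing D]
    [Fintype (MaximalSpectrum D)] (gen : MaximalSpectrum D → D)
    (hgen : ∀ M, Ideal.span {gen M} = M.asIdeal) (x : D) (hx : x ≠ 0) :
    ∃ e : MaximalSpectrum D → ℕ, Associated (∏ M, gen M ^ e M) x := by
  classical
  revert hx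
  refine UniqueFactorizationMonoid.induction_on_prime x (fun h => absurd rfl h) (fun u hu _ => ⟨0, ?_⟩) ?_
  · simpa using (associated_one_iff_isUnit.2 hu).symm
  · intro a p ha hp ih _
    obtain ⟨e, he⟩ := ih ha
    haveI : (Ideal.span {p}).IsPrime := (Ideal.span_singleton_prime hp.ne_zero).2 hp
    have hmax : (Ideal.span {p}).IsMaximal :=
      IsPrime.to_maximal_ideal (by rw [Ne, Ideal.span_singleton_eq_bot]; exact hp.ne_zero)
    refine ⟨fun M => e M + if M = ⟨_, hmax⟩ then 1 else 0, ?_⟩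
    have h1 : Associated (gen ⟨_, hmax⟩) p := Ideal.span_singleton_eq_span_singleton.1 (hgen _)
    simp only [pow_add, Finset.prod_mul_distrib, pow_ite, pow_one, pow_zero]
    rw [Finset.prod_ite_eq' Finset.univ (⟨_, hmax⟩ : MaximalSpectrum D) gen, if_pos (Finset.mem_univ _),
      mul_comm]
    exact h1.mul_mul he

variable {R : Type u} [CommRing R] [IsNoetherianRing R] [IsLocalRing R]

theorem isUnit_coe_of_σ (h : Reg R) {x : integralClosure R (TQ R)} (hx : ∀ p, σ x p ≠ 0) :
    IsUnit (x : TQ R) :=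
  h.isUnit_TQ fun p hp => hx p (Subtype.ext hp)

theorem mem_nonZeroDivisors_of_isUnit_coe {B : Subalgebra R (TQ R)} {x : B} (hx : IsUnit (x : TQ R)) :
    x ∈ (B : Type u)⁰ := mem_nonZeroDivisors_iff_right.2 fun y hy =>
  Subtype.ext (hx.mul_left_eq_zero.1 (congrArg Subtype.val hy))

/-- Common factor. -/
theorem exists_common_factor (h : Reg R) {a b : R} (ha : a ∈ R⁰) (hb : b ∈ R⁰) :
    ∃ (B : Subalgebra R (TQ R)) (_ : CycAlg.IsFinExt R B (maximalIdeal R)) (t a' b' : B),
      t ∈ (B : Type u)⁰ ∧ a' ∈ (B : Type u)⁰ ∧ b' ∈ (B : Type u)⁰ ∧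
      algebraMap R B a = t * a' ∧ algebraMap R B b = t * b' ∧ Ideal.span {a', b'} = ⊤ := by
  classical
  let ai : integralClosure R (TQ R) := algebraMap R _ a
  let bi : integralClosure R (TQ R) := algebraMap R _ b
  have hgcd : ∀ p, ∃ t x y a' b' : OP R p, t ≠ 0 ∧ σ ai p = t * a' ∧ σ bi p = t * b' ∧
      x * a' + y * b' = 1 := fun p => by
    haveI := h.isPrincipalIdealRing p
    obtain ⟨t, ht⟩ := IsPrincipalIdealRing.principal (Ideal.span {σ ai p, σ bi p})
    rw [← Ideal.span] at ht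
    obtain ⟨a', ha'⟩ := Ideal.mem_span_singleton'.1
      (ht ▸ Ideal.subset_span (Set.mem_insert (σ ai p) {σ bi p}))
    obtain ⟨b', hb'⟩ := Ideal.mem_span_singleton'.1
      (ht ▸ Ideal.subset_span (Set.mem_insert_of_mem (σ ai p) (Set.mem_singleton (σ bi p))))
    obtain ⟨x, y, hxy⟩ := Ideal.mem_span_pair.1 (ht.symm ▸ Ideal.mem_span_singleton_self t)
    have ht0 : t ≠ 0 := fun h0 => σ_algebraMap_ne_zero ha p (by rw [← ha', h0, mul_zero])
    refine ⟨t, x, y, a', b', ht0, by rw [← ha', mul_comm], by rw [← hb', mul_comm], ?_⟩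
    exact mul_right_cancel₀ ht0 (by rw [one_mul, add_mul, mul_assoc, mul_assoc, ha', hb', hxy])
  choose t x y a' b' ht0 hat hbt hxy using hgcd
  obtain ⟨t1, ht1⟩ := h.σ_surjective t
  obtain ⟨x1, hx1⟩ := h.σ_surjective x
  obtain ⟨y1, hy1⟩ := h.σ_surjective y
  have hne : ∀ p, σ t1 p ≠ 0 := fun p => by rw [ht1]; exact ht0 p
  obtain ⟨a1, ha1⟩ := h.dvd_of_σ_dvd (y := ai) hne ⟨a', funext fun p => by
    rw [ht1, hat p]; rfl⟩
  obtain ⟨b1, hb1⟩ := h.dvd_of_σ_dvd (y := bi) hne ⟨b', funext fun p => by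
    rw [ht1, hbt p]; rfl⟩
  have hu : IsUnit (x1 * a1 + y1 * b1) := h.isUnit_of_isUnit_σ (by
    have : σ (x1 * a1 + y1 * b1) = 1 := funext fun p => mul_left_cancel₀ (hne p) (by
      have e1 := congrFun (congrArg σ ha1) p
      have e2 := congrFun (congrArg σ hb1) p
      simp only [map_mul, map_add, Pi.mul_apply, Pi.add_apply, Pi.one_apply] at e1 e2 ⊢
      rw [ht1] at e1 e2 ⊢
      rw [hx1, hy1, mul_one, mul_add, mul_left_comm, ← e1, mul_left_comm (t p) (y p), ← e2, hat p,
        hbt p, mul_left_comm (x p), mul_left_comm (y p), ← mul_add, hxy p, mul_one])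
    rw [this]; exact isUnit_one)
  obtain ⟨z, hz⟩ := hu.exists_left_inv
  let S : Finset (TQ R) :=
    {(t1 : TQ R), (a1 : TQ R), (b1 : TQ R), ((z * x1 : integralClosure R (TQ R)) : TQ R),
      ((z * y1 : integralClosure R (TQ R)) : TQ R)}
  have hS : ∀ s ∈ S, IsIntegral R s := by
    intro s hs
    simp only [S, Finset.mem_insert, Finset.mem_singleton] at hs
    rcases hs with rfl | rfl | rfl | rfl | rfl <;> exact Subtype.prop _
  let B := Algebra.adjoin R (S : Set (TQ R))
  have mem : ∀ s ∈ S, s ∈ B := fun s hs => Algebra.subset_adjoin hs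
  have ua : IsUnit ((t1 : TQ R) * a1) := by
    rw [← Subalgebra.coe_mul, ← ha1]
    exact h.isUnit_algebraMap ha
  have ub : IsUnit ((t1 : TQ R) * b1) := by
    rw [← Subalgebra.coe_mul, ← hb1]
    exact h.isUnit_algebraMap hb
  refine ⟨B, h.isFinExt_adjoin S hS, ⟨t1, mem _ (by simp [S])⟩, ⟨a1, mem _ (by simp [S])⟩,
    ⟨b1, mem _ (by simp [S])⟩, ?_, ?_, ?_, Subtype.ext ((congrArg Subtype.val ha1 :)),
    Subtype.ext ((congrArg Subtype.val hb1 :)), ?_⟩
  · exact mem_nonZeroDivisors_of_isUnit_coe (isUnit_of_mul_isUnit_left ua)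
  · exact mem_nonZeroDivisors_of_isUnit_coe (isUnit_of_mul_isUnit_right ua)
  · exact mem_nonZeroDivisors_of_isUnit_coe (isUnit_of_mul_isUnit_right ub)
  · rw [Ideal.eq_top_iff_one, Ideal.mem_span_pair]
    refine ⟨⟨_, mem _ (show ((z * x1 : integralClosure R (TQ R)) : TQ R) ∈ S by simp [S])⟩,
      ⟨_, mem _ (show ((z * y1 : integralClosure R (TQ R)) : TQ R) ∈ S by simp [S])⟩, Subtype.ext ?_⟩
    show ((z * x1 : integralClosure R (TQ R)) : TQ R) * a1 +
      ((z * y1 : integralClosure R (TQ R)) : TQ R) * b1 = 1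
    rw [← Subalgebra.coe_mul, ← Subalgebra.coe_mul, ← Subalgebra.coe_add, mul_assoc, mul_assoc,
      ← mul_add, hz]
    rfl

/-- The factorisation property of a finite set of elements at the maximal ideals of an extension. -/
def Fac {ι : Type*} (B : Type u) [CommRing B] [Algebra R B] (a : ι → R) : Prop :=
  ∀ q : MaximalSpectrum B, ∃ π : Localization.AtPrime q.asIdeal,
    π ∈ (Localization.AtPrime q.asIdeal)⁰ ∧
    ∀ i, ∃ (v : (Localization.AtPrime q.asIdeal)ˣ) (e : ℕ),
      algebraMap R (Localization.AtPrime q.asIdeal) (a i) = (v : Localization.AtPrime q.asIdeal) * π ^ e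

/-- Factorisations exist in every sufficiently large finite subextension of the total fraction ring. -/
theorem exists_fac (h : Reg R) {ι : Type*} [Finite ι] (a : ι → R) (ha : ∀ i, a i ∈ R⁰) :
    ∃ S : Finset (TQ R), (∀ x ∈ S, IsIntegral R x) ∧
      ∀ B : Subalgebra R (TQ R), (S : Set (TQ R)) ⊆ B → Fac B a := by
  classical
  haveI := Fintype.ofFinite ι
  haveI := Fintype.ofFinite (MinP R)
  haveI : ∀ p, IsPrincipalIdealRing (OP R p) := h.isPrincipalIdealRing
  haveI : ∀ p, Fintype (MaximalSpectrum (OP R p)) := fun p => @Fintype.ofFinite _ (h.finite_maximals p)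
  let J := Σ p : MinP R, MaximalSpectrum (OP R p)
  have hg : ∀ j : J, ∃ g : OP R j.1, Ideal.span {g} = j.2.asIdeal := fun j =>
    ⟨_, Ideal.span_singleton_generator _⟩
  choose g hg using hg
  haveI : ∀ p, Algebra.IsIntegral R (OP R p) := fun p =>
    Algebra.IsIntegral.trans (A := R ⧸ p.1) (B := OP R p)
  have hg0 : ∀ j : J, g j ≠ 0 := fun j h0 => by
    have hb : j.2.asIdeal = ⊥ := by rw [← hg j, h0, Ideal.span_singleton_eq_bot]
    obtain ⟨c, hcm, hc⟩ := h.exists_reg
    haveI := j.2.isMaximal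
    have h1 : algebraMap R (OP R j.1) c ∈ j.2.asIdeal := by
      rw [← Ideal.mem_comap,
        IsLocalRing.eq_maximalIdeal (Ideal.isMaximal_comap_of_isIntegral_of_isMaximal j.2.asIdeal (R := R))]
      exact hcm
    rw [hb, Ideal.mem_bot] at h1
    have h2 : ψ j.1 (algebraMap R (TQ R) c) = 0 := ((ψ j.1).commutes c).trans (congrArg Subtype.val h1)
    exact ψ_algebraMap_ne_zero j.1 (notMem_of_mem_nonZeroDivisors hc j.1) h2
  let G : J → ∀ p, OP R p := fun j => Function.update 1 j.1 (g j)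
  choose ϖ hϖ using fun j => h.σ_surjective (G j)
  have hϖne : ∀ j p, σ (ϖ j) p ≠ 0 := fun j p => by
    rw [hϖ]
    by_cases hp : p = j.1
    · subst hp; simp [G, hg0]
    · simp [G, hp]
  have hfac : ∀ i, ∃ (e : J → ℕ) (w : (integralClosure R (TQ R))ˣ),
      algebraMap R (integralClosure R (TQ R)) (a i) = (w : integralClosure R (TQ R)) * ∏ j, ϖ j ^ e j := by
    intro i
    have hi : ∀ p, ∃ e : MaximalSpectrum (OP R p) → ℕ,
        Associated (∏ M, g ⟨p, M⟩ ^ e M) (σ (algebraMap R _ (a i)) p) := fun p =>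
      exists_associated_prod (fun M => g ⟨p, M⟩) (fun M => hg ⟨p, M⟩) _ (σ_algebraMap_ne_zero (ha i) p)
    choose e he using hi
    have hσ : Associated (σ (∏ j : J, ϖ j ^ e j.1 j.2)) (σ (algebraMap R _ (a i))) := by
      refine associated_pi fun p => ?_
      have e1 : σ (∏ j : J, ϖ j ^ e j.1 j.2) p = ∏ M, g ⟨p, M⟩ ^ e p M := by
        rw [map_prod, Finset.prod_apply, Fintype.prod_sigma, Finset.prod_eq_single p]
        · refine Finset.prod_congr rfl fun M _ => ?_
          simp [hϖ, G]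
        · intro q _ hq
          refine Finset.prod_eq_one fun M _ => ?_
          simp [hϖ, G, Ne.symm hq]
        · intro hn; exact absurd (Finset.mem_univ p) hn
      rw [e1]
      exact he p
    obtain ⟨w, hw⟩ := h.associated_of_σ (fun p => by
      rw [map_prod, Finset.prod_apply]
      exact Finset.prod_ne_zero_iff.2 fun j _ => by
        rw [map_pow, Pi.pow_apply]; exact pow_ne_zero _ (hϖne j p)) hσ
    exact ⟨fun j => e j.1 j.2, w, by rw [← hw, mul_comm]⟩
  choose e w hw using hfac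
  have hbez : ∀ jk : {jk : J × J // jk.1 ≠ jk.2}, ∃ u v : integralClosure R (TQ R),
      IsUnit (u * ϖ jk.1.1 + v * ϖ jk.1.2) := by
    rintro ⟨⟨j, k⟩, hjk⟩
    have hco : ∀ p, IsCoprime (G j p) (G k p) := fun p => by
      by_cases hj : p = j.1
      · by_cases hk : p = k.1
        · subst hj
          obtain ⟨p, M⟩ := j
          obtain ⟨p', N⟩ := k
          change p = p' at hk
          subst hk
          have hMN : M.asIdeal ≠ N.asIdeal := fun he => hjk (by rw [MaximalSpectrum.ext he])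
          simp only [G, Function.update_self]
          rw [← Ideal.isCoprime_span_singleton_iff, hg ⟨p, M⟩, hg ⟨p, N⟩]
          exact Ideal.isCoprime_iff_sup_eq.2 (M.isMaximal.coprime_of_ne N.isMaximal hMN)
        · simp [G, hk, isCoprime_one_right]
      · simp [G, hj, isCoprime_one_left]
    choose u v huv using hco
    obtain ⟨u1, hu1⟩ := h.σ_surjective u
    obtain ⟨v1, hv1⟩ := h.σ_surjective v
    refine ⟨u1, v1, h.isUnit_of_isUnit_σ ?_⟩
    have : σ (u1 * ϖ j + v1 * ϖ k) = 1 := by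
      rw [map_add, map_mul, map_mul, hu1, hv1, hϖ, hϖ]
      exact funext huv
    rw [this]; exact isUnit_one
  choose u v huv using hbez
  let S : Finset (TQ R) :=
    (Finset.univ.image fun j => (ϖ j : TQ R)) ∪
    (Finset.univ.image fun i => ((w i : integralClosure R (TQ R)) : TQ R)) ∪
    (Finset.univ.image fun i => (((w i)⁻¹ : (integralClosure R (TQ R))ˣ).1 : TQ R)) ∪
    (Finset.univ.image fun jk => (((huv jk).unit⁻¹).1 * u jk : integralClosure R (TQ R)).1) ∪
    (Finset.univ.image fun jk => (((huv jk).unit⁻¹).1 * v jk : integralClosure R (TQ R)).1)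
  refine ⟨S, fun x hx => ?_, fun B hSB q => ?_⟩
  · simp only [S, Finset.mem_union, Finset.mem_image, Finset.mem_univ, true_and] at hx
    rcases hx with (((⟨_, rfl⟩ | ⟨_, rfl⟩) | ⟨_, rfl⟩) | ⟨_, rfl⟩) | ⟨_, rfl⟩ <;>
      exact Subtype.prop _
  · have mϖ : ∀ j, (ϖ j : TQ R) ∈ B := fun j => hSB (by simp [S])
    let ϖB : J → B := fun j => ⟨_, mϖ j⟩
    let wB : ι → Bˣ := fun i =>
      { val := ⟨_, hSB (show ((w i : integralClosure R (TQ R)) : TQ R) ∈ (S : Set (TQ R)) by simp [S])⟩
        inv := ⟨_, hSB (show (((w i)⁻¹ : (integralClosure R (TQ R))ˣ).1 : TQ R) ∈ (S : Set (TQ R)) by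
          simp [S])⟩
        val_inv := Subtype.ext ((congrArg Subtype.val (w i).mul_inv :))
        inv_val := Subtype.ext ((congrArg Subtype.val (w i).inv_mul :)) }
    have hone : ∀ j k, j ≠ k → ϖB j ∈ q.asIdeal → ϖB k ∉ q.asIdeal := fun j k hjk hj hk => by
      let uB : B := ⟨_, hSB (show (((huv ⟨(j, k), hjk⟩).unit⁻¹).1 * u ⟨(j, k), hjk⟩ :
        integralClosure R (TQ R)).1 ∈ (S : Set (TQ R)) from Finset.mem_coe.2 (Finset.mem_union.2 (Or.inl
          (Finset.mem_union.2 (Or.inr (Finset.mem_image.2 ⟨_, Finset.mem_univ _, rfl⟩))))))⟩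
      let vB : B := ⟨_, hSB (show (((huv ⟨(j, k), hjk⟩).unit⁻¹).1 * v ⟨(j, k), hjk⟩ :
        integralClosure R (TQ R)).1 ∈ (S : Set (TQ R)) from Finset.mem_coe.2 (Finset.mem_union.2 (Or.inr
          (Finset.mem_image.2 ⟨_, Finset.mem_univ _, rfl⟩))))⟩
      have h1 : uB * ϖB j + vB * ϖB k = 1 := by
        refine Subtype.ext ?_
        show ((((huv ⟨(j, k), hjk⟩).unit⁻¹).1 * u _ * ϖ j + ((huv ⟨(j, k), hjk⟩).unit⁻¹).1 * v _ * ϖ k :
          integralClosure R (TQ R)) : TQ R) = ((1 : integralClosure R (TQ R)) : TQ R)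
        rw [mul_assoc, mul_assoc, ← mul_add]
        exact congrArg Subtype.val (huv ⟨(j, k), hjk⟩).val_inv_mul
      exact q.isMaximal.ne_top ((Ideal.eq_top_iff_one _).2
        (h1 ▸ add_mem (q.asIdeal.mul_mem_left _ hj) (q.asIdeal.mul_mem_left _ hk)))
    have hprodB : ∀ i, algebraMap R B (a i) = (wB i : B) * ∏ j, ϖB j ^ e i j := fun i => Subtype.ext (by
      rw [Subalgebra.coe_mul]
      push_cast
      have := congrArg Subtype.val (hw i)
      push_cast at this
      exact this)
    let L := Localization.AtPrime q.asIdeal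
    have hunit : ∀ j, ϖB j ∉ q.asIdeal → IsUnit (algebraMap B L (ϖB j)) := fun j hj =>
      IsLocalization.map_units L (⟨ϖB j, hj⟩ : q.asIdeal.primeCompl)
    by_cases hex : ∃ j, ϖB j ∈ q.asIdeal
    · obtain ⟨j₀, hj₀⟩ := hex
      refine ⟨algebraMap B L (ϖB j₀), IsLocalization.map_nonZeroDivisors_le q.asIdeal.primeCompl L
        ⟨_, mem_nonZeroDivisors_of_isUnit_coe (isUnit_coe_of_σ h (hϖne j₀)), rfl⟩, fun i => ?_⟩
      have hu : IsUnit (algebraMap B L (wB i : B) *
          ∏ j ∈ Finset.univ.erase j₀, algebraMap B L (ϖB j) ^ e i j) :=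
        ((wB i).isUnit.map _).mul (IsUnit.prod_iff.2 fun j hj =>
          (hunit j (hone j₀ j (Finset.ne_of_mem_erase hj).symm hj₀)).pow _)
      refine ⟨hu.unit, e i j₀, ?_⟩
      rw [IsUnit.unit_spec, IsScalarTower.algebraMap_apply R B L, hprodB, map_mul, map_prod,
        ← Finset.mul_prod_erase Finset.univ _ (Finset.mem_univ j₀)]
      simp only [map_pow]
      ring
    · push Not at hex
      refine ⟨1, one_mem _, fun i => ?_⟩
      have hu : IsUnit (algebraMap R L (a i)) := by
        rw [IsScalarTower.algebraMap_apply R B L, hprodB, map_mul, map_prod]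
        exact ((wB i).isUnit.map _).mul (IsUnit.prod_iff.2 fun j _ => by
          rw [map_pow]; exact (hunit j (hex j)).pow _)
      exact ⟨hu.unit, 0, by rw [IsUnit.unit_spec, pow_zero, mul_one]⟩

end Groth.Agent.TameLib
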