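import Mathlib
import Groth.Agent.WildInertiaLib.Basic

/-!
# Totally inertial Galois groups: the tame character without separability of the residue extension
-/

set_option autoImplicit false
universe u v w
open scoped Pointwise

namespace Groth.Agent.TameLib

section Group

variable {G : Type w} [Group G] [Finite G] {k : Type u} [Field k] (θ : G →* kˣ)
  (hθ : ∀ σ, θ σ = 1 → ∀ n : ℕ, (n : k) ≠ 0 → σ ^ n = 1 → σ = 1)
  {r : ℕ} (hr : (r : k) ≠ 0)

include hθ hr in
/-- Elements killed by the tame character have `r`-th roots. -/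
theorem exists_pow_eq {σ : G} (hσ : θ σ = 1) : ∃ τ : G, τ ^ r = σ := by
  have hco : (orderOf σ).Coprime r := by
    rw [Nat.coprime_iff_gcd_eq_one]
    set d := (orderOf σ).gcd r with hd
    have hdo : d ∣ orderOf σ := Nat.gcd_dvd_left _ _
    have hdr : d ∣ r := Nat.gcd_dvd_right _ _
    have hd0 : (d : k) ≠ 0 := fun h => hr (by
      obtain ⟨c, hc⟩ := hdr
      rw [hc, Nat.cast_mul, h, zero_mul])
    obtain ⟨c, hc⟩ := hdo
    have h1 : (σ ^ c) ^ d = 1 := by rw [← pow_mul, mul_comm, ← hc, pow_orderOf_eq_one]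
    have h2 : σ ^ c = 1 := hθ _ (by rw [map_pow, hσ, one_pow]) d hd0 h1
    have h3 : orderOf σ ∣ c := orderOf_dvd_of_pow_eq_one h2
    have hc0 : c ≠ 0 := fun h => (orderOf_pos σ).ne' (by rw [hc, h, mul_zero])
    have hdc : d * c ≤ 1 * c := by
      rw [one_mul, ← hc]; exact Nat.le_of_dvd (Nat.pos_of_ne_zero hc0) h3
    have : d ≠ 0 := fun h => hd0 (by rw [h, Nat.cast_zero])
    have := Nat.le_of_mul_le_mul_right hdc (Nat.pos_of_ne_zero hc0)
    omega
  obtain ⟨m, hm⟩ := exists_pow_eq_self_of_coprime (x := σ) hco.symm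
  exact ⟨σ ^ m, by rw [← pow_mul, mul_comm, pow_mul, hm]⟩

include hθ hr in
/-- A surjective character with values in a group of order `r` has kernel the products of `r`-th powers. -/
theorem exists_pow_mul_pow {Q : Type v} [CommGroup Q] (χ : G →* Q) (hχ : Function.Surjective χ)
    (hQ : Nat.card Q = r) {h : G} (hh : χ h = 1) : ∃ a b : G, a ^ r * b ^ r = h := by
  obtain ⟨g₀, hg₀⟩ : ∃ g₀ : G, ∀ g : G, ∃ i : ℤ, θ g = θ (g₀ ^ i) := by
    haveI : Finite θ.range := Finite.of_surjective θ.rangeRestrict θ.rangeRestrict_surjective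
    obtain ⟨c, hc⟩ := IsCyclic.exists_generator (α := θ.range)
    obtain ⟨g₀, hg₀⟩ := θ.rangeRestrict_surjective c
    refine ⟨g₀, fun g => ?_⟩
    obtain ⟨i, hi⟩ := Subgroup.mem_zpowers_iff.1 (hc (θ.rangeRestrict g))
    refine ⟨i, ?_⟩
    rw [map_zpow]
    have := congrArg Subtype.val hi
    rw [← hg₀] at this
    exact this.symm
  have key : ∀ g : G, ∃ (i : ℤ) (τ : G), g = g₀ ^ i * τ ^ r := fun g => by
    obtain ⟨i, hi⟩ := hg₀ g
    obtain ⟨τ, hτ⟩ := exists_pow_eq θ hθ hr (σ := (g₀ ^ i)⁻¹ * g) (by rw [map_mul, map_inv, hi, inv_mul_cancel])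
    exact ⟨i, τ, by rw [hτ, mul_inv_cancel_left]⟩
  have hpow : ∀ τ : G, χ (τ ^ r) = 1 := fun τ => by rw [map_pow, ← hQ, pow_card_eq_one']
  have hord : orderOf (χ g₀) = r := by
    haveI : Finite Q := Finite.of_surjective χ hχ
    rw [← hQ]
    refine orderOf_eq_card_of_forall_mem_zpowers fun x => ?_
    obtain ⟨g, rfl⟩ := hχ x
    obtain ⟨i, τ, rfl⟩ := key g
    exact Subgroup.mem_zpowers_iff.2 ⟨i, by rw [map_mul, hpow, mul_one, map_zpow]⟩
  obtain ⟨i, τ, rfl⟩ := key h
  rw [map_mul, hpow, mul_one, map_zpow, ← orderOf_dvd_iff_zpow_eq_one, hord] at hh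
  obtain ⟨j, rfl⟩ := hh
  exact ⟨g₀ ^ j, τ, by rw [mul_comm (r : ℤ) j, zpow_mul, zpow_natCast]⟩

end Group

variable {A : Type u} {B : Type v} {G : Type w} [CommRing A] [CommRing B] [IsDomain B]
  [IsDedekindDomain B] [Algebra A B] [Group G] [Finite G] [MulSemiringAction G B]
  (m : Ideal B) [m.IsMaximal]

/-- The tame character of a group of inertial automorphisms. -/
theorem exists_tame_hom [FaithfulSMul G B] (hm : m ≠ ⊥) (hI : ∀ σ : G, σ ∈ m.inertia G) :
    ∃ θ : G →* (B ⧸ m)ˣ, ∀ σ, θ σ = 1 → ∀ n : ℕ, (n : B ⧸ m) ≠ 0 → σ ^ n = 1 → σ = 1 := by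
  obtain ⟨π, hπ, hπ2⟩ := WildInertiaLib.exists_unif m hm
  obtain ⟨θ, hθ⟩ := WildInertiaLib.exists_theta (G := G) m hπ hπ2 hm
  let f : G →* m.inertia G := MonoidHom.codRestrict (MonoidHom.id G) _ hI
  refine ⟨θ.comp f, fun σ hσ n hn hσn => ?_⟩
  have hσπ : σ • π - π ∈ m ^ 2 := (hθ (f σ)).1 hσ
  have hmv : ∀ x ∈ m, σ • x - x ∈ m ^ 2 := by
    intro x hx
    obtain ⟨d, e, he, hde⟩ := Ideal.exists_mul_add_mem_pow_succ hm (i := 1) π x (by rwa [pow_one]) hπ2
      (by rwa [pow_one])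
    have h1 : (σ • π - π) * (σ • d) ∈ m ^ 2 := Ideal.mul_mem_right _ _ hσπ
    have h2 : π * (σ • d - d) ∈ m ^ 2 := by rw [pow_two]; exact Ideal.mul_mem_mul hπ (hI σ d)
    have := add_mem (add_mem h1 h2) (WildInertiaLib.smul_sub_mem_sq m (hI σ) he)
    convert this using 1
    rw [← hde, smul_add, smul_mul']
    ring
  refine WildInertiaLib.eq_one_of_pow_eq_one m hm (fun b => ?_) hσn hn
  have hsq : ∀ y ∈ m ^ 2, σ • y ∈ m ^ 2 := fun y hy => by
    simpa using add_mem (WildInertiaLib.smul_sub_mem_sq m (hI σ) hy) hy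
  have hk : ∀ k : ℕ, σ ^ k • b - b - (k : B) * (σ • b - b) ∈ m ^ 2 := by
    intro k
    induction k with
    | zero => simp
    | succ k ih =>
      have := add_mem (hsq _ ih) (Ideal.mul_mem_left _ (k : B) (hmv _ (hI σ b)))
      convert this using 1
      simp only [pow_succ', mul_smul, smul_sub, smul_mul', Nat.cast_add, Nat.cast_one]
      rw [show σ • (k : B) = (k : B) from map_natCast (MulSemiringAction.toRingHom G B σ) k]
      ring
  have h0 := hk n
  rw [hσn, one_smul, sub_self, zero_sub, neg_mem_iff] at h0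
  by_contra hb
  refine hn ?_
  rw [← map_natCast (Ideal.Quotient.mk m), Ideal.Quotient.eq_zero_iff_mem]
  exact Ideal.mem_prime_of_mul_mem_pow hm (i := 1) hb (by rw [mul_comm]; simpa using h0)

omit [IsDomain B] [IsDedekindDomain B] in
/-- The residue extension is trivial if the order of the group is invertible there. -/
theorem residue_surjective [IsLocalRing A] [Algebra.IsInvariant A B G] [Fintype G]
    (hI : ∀ σ : G, σ ∈ m.inertia G) (hr : IsUnit ((Nat.card G : ℕ) : A)) :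
    Function.Surjective ((Ideal.Quotient.mk m).comp (algebraMap A B)) := by
  intro x
  obtain ⟨b, rfl⟩ := Ideal.Quotient.mk_surjective x
  obtain ⟨a, ha⟩ := Algebra.IsInvariant.isInvariant (A := A) (G := G) (∑ g : G, g • b) fun g => by
    rw [Finset.smul_sum]
    exact Fintype.sum_equiv (Equiv.mulLeft g) _ _ fun h => by rw [Equiv.coe_mulLeft, mul_smul]
  refine ⟨hr.unit⁻¹.1 * a, ?_⟩
  rw [RingHom.comp_apply, map_mul, ha, Ideal.Quotient.eq]
  have h1 : ∑ g : G, g • b - (Nat.card G : B) * b ∈ m := by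
    have h : (Nat.card G : B) * b = ∑ _g : G, b := by
      rw [Finset.sum_const, Finset.card_univ, Nat.card_eq_fintype_card, nsmul_eq_mul]
    rw [h, ← Finset.sum_sub_distrib]
    exact Submodule.sum_mem _ fun g _ => hI g b
  have := Ideal.mul_mem_left _ (algebraMap A B hr.unit⁻¹.1) h1
  rw [mul_sub, ← mul_assoc, show algebraMap A B hr.unit⁻¹.1 * (Nat.card G : B) = 1 by
    rw [← map_natCast (algebraMap A B), ← map_mul, IsUnit.val_inv_mul, map_one], one_mul] at this
  exact this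

end Groth.Agent.TameLib
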