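import Groth.Agent.TameLib.Value

/-!
# A length bound for extended ideals
-/

set_option autoImplicit false
set_option linter.style.haveILetI false
set_option linter.unusedSectionVars false
universe u

open IsLocalRing nonZeroDivisors

noncomputable section

namespace Groth.Agent.TameLib

/-- `S / (K + J S)` is no longer than `R / J` times `S / (K + 𝔪 S)`. -/
theorem length_quot_sup_map_le {R S : Type u} [CommRing R] [IsLocalRing R] [IsNoetherianRing R]
    [CommRing S] (f : R →+* S) (K : Ideal S) (J : Ideal R)
    (hJ : ∃ k, maximalIdeal R ^ k ≤ J) :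
    Module.length S (S ⧸ (K ⊔ Ideal.map f J)) ≤
      Module.length R (R ⧸ J) * Module.length S (S ⧸ (K ⊔ (maximalIdeal R).map f)) := by
  classical
  revert hJ
  induction J using IsNoetherian.induction with
  | _ J ih =>
  intro hJ
  by_cases htop : J = ⊤
  · subst htop
    haveI : Subsingleton (S ⧸ (K ⊔ (⊤ : Ideal R).map f)) :=
      Ideal.Quotient.subsingleton_iff.2 (by rw [Ideal.map_top]; exact sup_top_eq K)
    rw [Module.length_eq_zero]
    exact zero_le
  have hk := Nat.find_spec hJ
  have hk0 : Nat.find hJ ≠ 0 := fun h0 => htop (top_le_iff.1 (by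
    rw [h0, pow_zero, Ideal.one_eq_top] at hk; exact hk))
  obtain ⟨g, hg, hgJ⟩ := SetLike.not_le_iff_exists.1
    (Nat.find_min hJ (Nat.sub_lt (Nat.pos_of_ne_zero hk0) Nat.one_pos))
  have hmg : ∀ x ∈ maximalIdeal R, g * x ∈ J := fun x hx => hk (by
    have := Ideal.mul_mem_mul hg hx
    rwa [← pow_succ, Nat.sub_add_cancel (Nat.pos_of_ne_zero hk0)] at this)
  let J' := J ⊔ Ideal.span {g}
  have hgJ' : g ∈ J' := Ideal.mem_sup_right (Ideal.mem_span_singleton_self g)
  have hlt : J < J' := lt_of_le_of_ne le_sup_left fun h => hgJ (by rw [h]; exact hgJ')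
  have hRlen : 1 + Module.length R (R ⧸ J') ≤ Module.length R (R ⧸ J) := by
    let π := Submodule.factor (le_sup_left : J ≤ J')
    have hπ : Function.Surjective π := Submodule.factor_surjective _
    rw [Module.length_eq_add_of_exact (LinearMap.ker π).subtype π (Submodule.subtype_injective _) hπ
      (LinearMap.exact_subtype_ker_map π)]
    gcongr
    haveI : Nontrivial (LinearMap.ker π) := Submodule.nontrivial_iff_ne_bot.2 fun hb => hgJ (by
      have h1 : Submodule.Quotient.mk g ∈ LinearMap.ker π := (Submodule.Quotient.mk_eq_zero J').2 hgJ'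
      rw [hb, Submodule.mem_bot] at h1
      exact (Submodule.Quotient.mk_eq_zero J).1 h1)
    exact Order.one_le_iff_pos.2 Module.length_pos
  have hmap : Ideal.map f J' = Ideal.map f J ⊔ Ideal.span {f g} := by
    rw [Ideal.map_sup, Ideal.map_span, Set.image_singleton]
  let P : Ideal S := K ⊔ (maximalIdeal R).map f
  let Q : Ideal S := K ⊔ Ideal.map f J
  let Q' : Ideal S := K ⊔ Ideal.map f J'
  have hQQ' : Q ≤ Q' := sup_le_sup_left (Ideal.map_mono le_sup_left) K
  have hPQ : P ≤ Submodule.comap (LinearMap.mulLeft S (f g)) Q := by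
    refine sup_le (fun x hx => ?_) ?_
    · exact Ideal.mem_sup_left (K.mul_mem_left (f g) hx)
    · rw [Ideal.map_le_iff_le_comap]
      intro x hx
      show f g * f x ∈ Q
      rw [← map_mul]
      exact Ideal.mem_sup_right (Ideal.mem_map_of_mem f (hmg x hx))
  let φ := Submodule.mapQ P Q (LinearMap.mulLeft S (f g)) hPQ
  let ψ := Submodule.factor hQQ'
  have hker : ∀ z, ψ z = 0 → z ∈ LinearMap.range φ := by
    intro z hz
    obtain ⟨s, rfl⟩ := Submodule.Quotient.mk_surjective Q z
    have hs : s ∈ Q' := (Submodule.Quotient.mk_eq_zero Q').1 hz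
    have hs' : s ∈ Q ⊔ Ideal.span {f g} := by
      simpa only [Q, Q', hmap, sup_assoc] using hs
    obtain ⟨a, ha, b, hb, rfl⟩ := Submodule.mem_sup.1 hs'
    obtain ⟨w, rfl⟩ := Ideal.mem_span_singleton'.1 hb
    refine ⟨Submodule.Quotient.mk w, ?_⟩
    refine (Submodule.mapQ_apply ..).trans ?_
    rw [Submodule.Quotient.eq]
    show f g * w - (a + w * f g) ∈ Q
    rw [mul_comm (f g) w, sub_add_cancel_right]
    exact neg_mem ha
  calc Module.length S (S ⧸ Q)
      = Module.length S (LinearMap.ker ψ) + Module.length S (S ⧸ Q') :=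
        Module.length_eq_add_of_exact (LinearMap.ker ψ).subtype ψ (Submodule.subtype_injective _)
          (Submodule.factor_surjective _) (LinearMap.exact_subtype_ker_map ψ)
    _ ≤ Module.length S (S ⧸ P) + Module.length R (R ⧸ J') * Module.length S (S ⧸ P) := by
        refine add_le_add ?_ (ih J' hlt (hJ.imp fun k h => h.trans le_sup_left))
        calc Module.length S (LinearMap.ker ψ) ≤ Module.length S (LinearMap.range φ) :=
              Module.length_le_of_injective (Submodule.inclusion fun z hz => hker z hz)
                (Submodule.inclusion_injective _)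
          _ ≤ _ := Module.length_le_of_surjective φ.rangeRestrict φ.surjective_rangeRestrict
    _ = (1 + Module.length R (R ⧸ J')) * Module.length S (S ⧸ P) := by rw [add_mul, one_mul]
    _ ≤ _ := by gcongr

variable {B : Type u} [CommRing B]

/-- Local lengths of a cyclic module. -/
theorem length_loc_of_surjective {M : Type u} [AddCommGroup M] [Module B M] (g : B →ₗ[B] M)
    (hg : Function.Surjective g) (q : MaximalSpectrum B) :
    Module.length (Loc q) (LocalizedModule q.asIdeal.primeCompl M) =
      Module.length (Loc q) (Loc q ⧸ Ideal.map (algebraMap B (Loc q)) (LinearMap.ker g)) := by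
  let S := q.asIdeal.primeCompl
  let L := Loc q
  let f := Algebra.linearMap B L
  let I : Ideal B := LinearMap.ker g
  let e : M ≃ₗ[B] (B ⧸ I) := (g.quotKerEquivOfSurjective hg).symm
  let P : Submodule L L := (I : Submodule B B).localized' L S f
  have hP : P = I.map (algebraMap B L) := Ideal.localized'_eq_map L S _
  let g' := (I : Submodule B B).toLocalizedQuotient' L S f
  exact ((IsLocalizedModule.mapEquiv S (LocalizedModule.mkLinearMap S M)
      (LocalizedModule.mkLinearMap S (B ⧸ I)) (Localization S) e).trans
    (((IsLocalizedModule.iso S g').extendScalarsOfIsLocalization S L).trans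
      (Submodule.quotEquivOfEq P _ hP))).length_eq

theorem isFiniteLength_of_tower (R : Type u) [CommRing R] [Algebra R B] {M : Type u} [AddCommGroup M]
    [Module B M] [Module R M] [IsScalarTower R B M] (h : Module.length R M ≠ ⊤) :
    IsFiniteLength B M := by
  rw [Module.length_ne_top_iff, isFiniteLength_iff_isNoetherian_isArtinian] at h
  exact isFiniteLength_iff_isNoetherian_isArtinian.2
    ⟨@isNoetherian_of_tower R B M _ _ _ _ _ _ _ h.1, @isArtinian_of_tower R B M _ _ _ _ _ _ _ h.2⟩

end Groth.Agent.TameLib
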