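import Groth.Agent.TameLib.Basic

/-!
# Kummer extensions inside totally inertial Galois extensions
-/

set_option autoImplicit false
set_option linter.style.haveILetI false
set_option maxHeartbeats 1000000
universe u
open scoped Pointwise
open Polynomial

namespace Groth.Agent.TameLib

variable (R K : Type u) [CommRing R] [IsDomain R] [IsDiscreteValuationRing R] [Field K] [Algebra R K]
  [IsFractionRing R K] (M : Type u) [Field M] [Algebra K M] [Algebra R M] [IsScalarTower R K M]

/-- All automorphisms are inertial at some maximal ideal of the integral closure. -/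
def InertAt : Prop :=
  ∃ m : Ideal (integralClosure R M), m.IsMaximal ∧ m ≠ ⊥ ∧
    ∀ (σ : M ≃ₐ[K] M) (b b' : integralClosure R M), (b' : M) = σ b → b' - b ∈ m

theorem natCast_notMem {B : Type u} [CommRing B] [Algebra R B] {r : ℕ} (hr : IsUnit (r : R)) (m : Ideal B)
    [hm : m.IsPrime] : (r : B) ∉ m := fun h =>
  hm.ne_top (m.eq_top_of_isUnit_mem h (by simpa using hr.map (algebraMap R B)))

variable {R K M}

omit [IsFractionRing R K] [IsScalarTower R K M] in
/-- Roots of unity of invertible order are fixed by inertial automorphisms. -/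
theorem fixed_of_pow_eq_one (hM : InertAt R K M) {r : ℕ} (hr : IsUnit (r : R)) (σ : M ≃ₐ[K] M) {x : M}
    (hx : x ^ r = 1) : σ x = x := by
  obtain ⟨m, hm, -, hI⟩ := hM
  haveI := hm.isPrime
  rcases Nat.eq_zero_or_pos r with rfl | hr0
  · exact absurd (by simp) (natCast_notMem R hr m)
  have hint : ∀ y : M, y ^ r = 1 → IsIntegral R y := fun y hy => IsIntegral.of_pow hr0 (hy ▸ isIntegral_one)
  let b : integralClosure R M := ⟨x, hint x hx⟩
  let b' : integralClosure R M := ⟨σ x, hint _ (by rw [← map_pow, hx, map_one])⟩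
  by_contra hne
  have hb : b ^ r = 1 := Subtype.ext (by simpa [b] using hx)
  have hb' : b' ^ r = 1 := Subtype.ext (by
    show (σ x) ^ r = 1
    rw [← map_pow, hx, map_one])
  have hd := hI σ b b' rfl
  have h0 : (b' - b) * ∑ i ∈ Finset.range r, b' ^ i * b ^ (r - 1 - i) = 0 := by
    rw [mul_comm, geom_sum₂_mul, hb, hb', sub_self]
  have hs : ∑ i ∈ Finset.range r, b' ^ i * b ^ (r - 1 - i) = 0 :=
    (mul_eq_zero.1 h0).resolve_left (sub_ne_zero.2 fun h => hne (congrArg Subtype.val h))
  have hq : Ideal.Quotient.mk m b' = Ideal.Quotient.mk m b := Ideal.Quotient.eq.2 hd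
  have h1 := congrArg (Ideal.Quotient.mk m) hs
  rw [map_sum, map_zero, Finset.sum_congr rfl (fun i hi => by
    rw [map_mul, map_pow, map_pow, hq, ← pow_add, Nat.add_sub_cancel' (by have := Finset.mem_range.1 hi; omega)]),
    Finset.sum_const, Finset.card_range, nsmul_eq_mul, ← map_natCast (Ideal.Quotient.mk m), ← map_pow, ← map_mul,
    Ideal.Quotient.eq_zero_iff_mem] at h1
  rcases hm.isPrime.mem_or_mem h1 with h | h
  · exact natCast_notMem R hr m h
  · exact hm.ne_top (m.eq_top_of_isUnit_mem h ((IsUnit.of_pow_eq_one hb hr0.ne').pow _))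

section Kummer

variable {ϖ : R} (hϖ : Irreducible ϖ) {r : ℕ} (hr0 : 0 < r)

include hϖ hr0 in
theorem irreducible_kummer : Irreducible (X ^ r - C (algebraMap R K ϖ)) := by
  have hmon : (X ^ r - C ϖ : R[X]).Monic := monic_X_pow_sub_C ϖ hr0.ne'
  have hE : (X ^ r - C ϖ : R[X]).IsEisensteinAt (Ideal.span {ϖ}) :=
    { leading := by
        rw [hmon.leadingCoeff, Ideal.mem_span_singleton]
        exact fun h => hϖ.not_isUnit (isUnit_of_dvd_one h)
      mem := fun {n} hn => by
        rw [natDegree_X_pow_sub_C] at hn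
        rw [coeff_sub, coeff_X_pow, if_neg hn.ne, zero_sub, neg_mem_iff, coeff_C]
        split
        · exact Ideal.mem_span_singleton_self ϖ
        · exact zero_mem _
      notMem := by
        rw [coeff_sub, coeff_X_pow, if_neg hr0.ne, zero_sub, neg_mem_iff, coeff_C_zero, pow_two,
          Ideal.span_singleton_mul_span_singleton, Ideal.mem_span_singleton]
        intro h
        obtain ⟨c, hc⟩ := h
        exact hϖ.not_isUnit (IsUnit.of_mul_eq_one c (mul_left_cancel₀ hϖ.ne_zero (by rw [mul_one]; rw [← mul_assoc]; exact hc.symm))) }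
  have hirr : Irreducible (X ^ r - C ϖ : R[X]) := hE.irreducible
    ((Ideal.span_singleton_prime hϖ.ne_zero).2 hϖ.prime) hmon.isPrimitive (by rw [natDegree_X_pow_sub_C]; exact hr0)
  simpa using (hmon.irreducible_iff_irreducible_map_fraction_map (K := K)).1 hirr

variable {ρ : M} (hρ : ρ ^ r = algebraMap R M ϖ)

include hϖ hr0 hρ in
theorem minpoly_root : minpoly K ρ = X ^ r - C (algebraMap R K ϖ) := by
  refine (minpoly.eq_of_irreducible_of_monic (irreducible_kummer hϖ hr0) ?_ (monic_X_pow_sub_C _ hr0.ne')).symm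
  simp [hρ, ← IsScalarTower.algebraMap_apply R K M]

include K hϖ hr0 hρ in
theorem root_ne_zero : ρ ≠ 0 := fun h => by
  rw [h, zero_pow hr0.ne', eq_comm, IsScalarTower.algebraMap_apply R K M] at hρ
  rw [map_eq_zero_iff _ (algebraMap K M).injective, map_eq_zero_iff _ (IsFractionRing.injective R K)] at hρ
  exact hϖ.ne_zero hρ

variable [FiniteDimensional K M] [IsGalois K M]

include hϖ hρ in
/-- An automorphism fixing an `r`-th root of a uniformizer is a product of `r`-th powers. -/
theorem exists_pow_mul_pow_of_fixed (hM : InertAt R K M) (hr : IsUnit (r : R)) {ζ : M}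
    (hζ : IsPrimitiveRoot ζ r) {h : M ≃ₐ[K] M} (hh : h ρ = ρ) :
    ∃ a b : M ≃ₐ[K] M, a ^ r * b ^ r = h := by
  have hr0 : 0 < r := Nat.pos_of_ne_zero fun h0 => by
    rw [h0, Nat.cast_zero] at hr
    exact not_isUnit_zero hr
  haveI : NeZero r := ⟨hr0.ne'⟩
  have hρ0 : ρ ≠ 0 := root_ne_zero (K := K) hϖ hr0 hρ
  have hq : ∀ σ : M ≃ₐ[K] M, (σ ρ / ρ) ^ r = 1 := fun σ => by
    rw [div_pow, ← map_pow, hρ, IsScalarTower.algebraMap_apply R K M, AlgEquiv.commutes, div_self]
    rw [← IsScalarTower.algebraMap_apply R K M, ← hρ]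
    exact pow_ne_zero _ hρ0
  let χ : (M ≃ₐ[K] M) →* rootsOfUnity r M :=
    { toFun := fun σ => rootsOfUnity.mkOfPowEq (σ ρ / ρ) (hq σ)
      map_one' := Subtype.ext (Units.ext (by simp [div_self hρ0]))
      map_mul' := fun σ τ => Subtype.ext (Units.ext (by
        simp only [rootsOfUnity.val_mkOfPowEq_coe, Subgroup.coe_mul, Units.val_mul, AlgEquiv.mul_apply]
        have h1 : σ (τ ρ) = σ (τ ρ / ρ) * σ ρ := by rw [← map_mul, div_mul_cancel₀ _ hρ0]
        rw [h1, fixed_of_pow_eq_one hM hr σ (hq τ)]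
        ring)) }
  have hχ : Function.Surjective χ := by
    intro z
    obtain ⟨σ, hσ⟩ := minpoly.exists_algEquiv_of_root' (K := K) (x := ((z : Mˣ) : M) * ρ) (y := ρ)
      (Algebra.IsAlgebraic.isAlgebraic ρ) (by
        rw [minpoly_root hϖ hr0 hρ]
        simp only [map_sub, map_pow, aeval_X, aeval_C, mul_pow, hρ]
        rw [show (((z : Mˣ) : M)) ^ r = 1 from congrArg Units.val z.2, one_mul,
          ← IsScalarTower.algebraMap_apply, sub_self])
    refine ⟨σ, Subtype.ext (Units.ext ?_)⟩
    show σ ρ / ρ = _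
    rw [hσ, mul_div_cancel_right₀ _ hρ0]
  have hQ : Nat.card (rootsOfUnity r M) = r := hζ.card_rootsOfUnity
  have hh' : χ h = 1 := Subtype.ext (Units.ext (by
    show h ρ / ρ = 1
    rw [hh, div_self hρ0]))
  obtain ⟨m, hm, hm0, hI⟩ := hM
  letI := IsIntegralClosure.MulSemiringAction R K M (integralClosure R M)
  haveI : IsFractionRing (integralClosure R M) M := IsIntegralClosure.isFractionRing_of_finite_extension R K M _
  haveI : IsDedekindDomain (integralClosure R M) := IsIntegralClosure.isDedekindDomain R K M _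
  haveI : IsGaloisGroup (M ≃ₐ[K] M) R (integralClosure R M) := IsGaloisGroup.of_isFractionRing _ _ _ K M
  haveI : FaithfulSMul (M ≃ₐ[K] M) (integralClosure R M) :=
    IsGaloisGroup.faithful (G := M ≃ₐ[K] M) (A := R) (B := integralClosure R M)
  have hI' : ∀ σ : M ≃ₐ[K] M, σ ∈ m.inertia (M ≃ₐ[K] M) := fun σ b =>
    hI σ b (σ • b) (algebraMap_galRestrict_apply R σ b)
  obtain ⟨θ, hθ⟩ := exists_tame_hom m hm0 hI'
  letI := Ideal.Quotient.field m
  exact exists_pow_mul_pow θ hθ (r := r) (fun h0 => natCast_notMem R hr m (by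
    rw [← Ideal.Quotient.eq_zero_iff_mem, map_natCast]; exact h0)) χ hχ hQ hh'

end Kummer

end Groth.Agent.TameLib
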