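import Mathlib
import Groth.Prelude.Def_Tame

/-!
# Lengths of finite length modules over a finite algebra over a local ring
-/

set_option autoImplicit false
set_option linter.style.haveILetI false
set_option linter.unusedSectionVars false
universe u

open IsLocalRing nonZeroDivisors

noncomputable section

namespace Groth.Agent.TameLib

variable (A : Type u) [CommRing A] [IsLocalRing A] {B : Type u} [CommRing B] [Algebra A B]
  [Module.Finite A B]

/-- The localisation at a maximal ideal. -/
abbrev Loc (q : MaximalSpectrum B) : Type u := Localization.AtPrime q.asIdeal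

theorem isLocalHom_loc (q : MaximalSpectrum B) : IsLocalHom (algebraMap A (Loc q)) := by
  constructor
  intro a ha
  by_contra hna
  haveI := q.isMaximal
  haveI : Algebra.IsIntegral A B := Algebra.IsIntegral.of_finite A B
  have hm : algebraMap A B a ∈ q.asIdeal := by
    rw [← Ideal.mem_comap, IsLocalRing.eq_maximalIdeal (Ideal.isMaximal_comap_of_isIntegral_of_isMaximal q.asIdeal)]
    exact hna
  rw [IsScalarTower.algebraMap_apply A B (Loc q)] at ha
  exact (IsLocalization.AtPrime.isUnit_to_map_iff (Loc q) q.asIdeal _).1 ha hm

/-- The residue degree. -/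
def deg (q : MaximalSpectrum B) : ℕ :=
  haveI := isLocalHom_loc A q
  Module.finrank (ResidueField A) (ResidueField (Loc q))

theorem finite_residueField (q : MaximalSpectrum B) :
    haveI := isLocalHom_loc A q
    Module.Finite (ResidueField A) (ResidueField (Loc q)) := by
  haveI := isLocalHom_loc A q
  haveI : Module.Finite A (ResidueField (Loc q)) :=
    Module.Finite.of_surjective ((IsScalarTower.toAlgHom A B (ResidueField (Loc q))).toLinearMap)
      (Ideal.algebraMap_residueField_surjective q.asIdeal)
  exact Module.Finite.of_restrictScalars_finite A _ _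

theorem deg_pos (q : MaximalSpectrum B) : 0 < deg A q := by
  haveI := isLocalHom_loc A q
  haveI := finite_residueField A q
  exact Module.finrank_pos

theorem length_quot (q : MaximalSpectrum B) : Module.length A (B ⧸ q.asIdeal) = (deg A q : ℕ∞) := by
  haveI := isLocalHom_loc A q
  haveI := finite_residueField A q
  haveI := q.isMaximal
  let f : (B ⧸ q.asIdeal) →ₐ[A] ResidueField (Loc q) :=
    IsScalarTower.toAlgHom A (B ⧸ q.asIdeal) q.asIdeal.ResidueField
  let e : (B ⧸ q.asIdeal) ≃ₗ[A] ResidueField (Loc q) :=
    LinearEquiv.ofBijective f.toLinearMap q.asIdeal.bijective_algebraMap_quotient_residueField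
  rw [e.length_eq]
  exact (Module.length_eq_of_surjective (R := ResidueField A) residue_surjective).trans
    (Module.length_eq_finrank (ResidueField A) (ResidueField (Loc q)))

omit [IsLocalRing A] in
theorem finite_maximalSpectrum [IsNoetherianRing A] [IsLocalRing A] : Finite (MaximalSpectrum B) := by
  haveI : Algebra.IsIntegral A B := Algebra.IsIntegral.of_finite A B
  let I : Ideal B := (maximalIdeal A).map (algebraMap A B)
  have hI : ∀ q : MaximalSpectrum B, I ≤ q.asIdeal := fun q => by
    rw [Ideal.map_le_iff_le_comap]
    haveI := q.isMaximal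
    exact (IsLocalRing.eq_maximalIdeal (Ideal.isMaximal_comap_of_isIntegral_of_isMaximal q.asIdeal)).ge
  letI : Algebra (A ⧸ maximalIdeal A) (B ⧸ I) :=
    (Ideal.quotientMap I (algebraMap A B) Ideal.le_comap_map).toAlgebra
  haveI : IsScalarTower A (A ⧸ maximalIdeal A) (B ⧸ I) :=
    IsScalarTower.of_algebraMap_eq fun a => rfl
  haveI : Module.Finite (A ⧸ maximalIdeal A) (B ⧸ I) := Module.Finite.of_restrictScalars_finite A _ _
  letI : Field (A ⧸ maximalIdeal A) := Ideal.Quotient.field _
  haveI : IsArtinianRing (B ⧸ I) := IsArtinianRing.of_finite (A ⧸ maximalIdeal A) _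
  refine Finite.of_injective (fun M : MaximalSpectrum B =>
    (⟨M.asIdeal.map (Ideal.Quotient.mk I), (Ideal.map_eq_top_or_isMaximal_of_surjective _
      Ideal.Quotient.mk_surjective M.isMaximal).resolve_left fun ht => M.isMaximal.ne_top (by
        have := congrArg (Ideal.comap (Ideal.Quotient.mk I)) ht
        rwa [Ideal.comap_map_mk (hI M), Ideal.comap_top] at this)⟩ : MaximalSpectrum (B ⧸ I))) ?_
  intro M N hMN
  have := congrArg (fun X : MaximalSpectrum (B ⧸ I) => X.asIdeal.comap (Ideal.Quotient.mk I)) hMN
  simp only [Ideal.comap_map_mk (hI M), Ideal.comap_map_mk (hI N)] at this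
  exact MaximalSpectrum.ext this

/-- A finite length module is the sum of its localisations, in lengths. -/
theorem length_eq_sum' [Fintype (MaximalSpectrum B)] {M : Type u} [AddCommGroup M] [Module B M]
    (hM : IsFiniteLength B M) : ∀ [Module A M] [IsScalarTower A B M],
    Module.length A M =
      ∑ q : MaximalSpectrum B, (deg A q : ℕ∞) *
        Module.length (Loc q) (LocalizedModule q.asIdeal.primeCompl M) := by
  classical
  induction hM with
  | of_subsingleton =>
    intro _ _
    rw [Module.length_eq_zero, Finset.sum_eq_zero]
    intro q _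
    rw [Module.length_eq_zero, mul_zero]
  | @of_simple_quotient M _ _ N hs hN ih =>
    intro _ _
    have e1 := Module.length_eq_add_of_exact (N.subtype.restrictScalars A) (N.mkQ.restrictScalars A)
      N.injective_subtype N.mkQ_surjective (LinearMap.exact_subtype_mkQ N)
    rw [e1, ih]
    have e2 : ∀ q : MaximalSpectrum B, Module.length (Loc q) (LocalizedModule q.asIdeal.primeCompl M) =
        Module.length (Loc q) (LocalizedModule q.asIdeal.primeCompl N) +
        Module.length (Loc q) (LocalizedModule q.asIdeal.primeCompl (M ⧸ N)) := fun q =>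
      Module.length_eq_add_of_exact (LocalizedModule.map q.asIdeal.primeCompl N.subtype)
        (LocalizedModule.map q.asIdeal.primeCompl N.mkQ)
        (LocalizedModule.map_injective _ _ N.injective_subtype)
        (LocalizedModule.map_surjective _ _ N.mkQ_surjective)
        (LocalizedModule.map_exact _ _ _ (LinearMap.exact_subtype_mkQ N))
    simp only [e2, mul_add, Finset.sum_add_distrib]
    congr 1
    obtain ⟨I, hI, ⟨e⟩⟩ := isSimpleModule_iff_quot_maximal.1 hs
    have hA : Module.length A (M ⧸ N) = Module.length A (B ⧸ I) := (e.restrictScalars A).length_eq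
    rw [hA, length_quot A ⟨I, hI⟩, Finset.sum_eq_single (⟨I, hI⟩ : MaximalSpectrum B)]
    · haveI : IsSimpleModule (Loc (⟨I, hI⟩ : MaximalSpectrum B))
          (LocalizedModule I.primeCompl (M ⧸ N)) := by
        refine isSimpleModule_iff_quot_maximal.2 ⟨maximalIdeal _, inferInstance, ⟨?_⟩⟩
        haveI := hI
        let S := I.primeCompl
        let L := Localization.AtPrime I
        let f := Algebra.linearMap B L
        let P : Submodule L L := (I : Submodule B B).localized' L S f
        have hP : P = maximalIdeal L :=
          (Ideal.localized'_eq_map L S _).trans Localization.AtPrime.map_eq_maximalIdeal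
        let g := (I : Submodule B B).toLocalizedQuotient' L S f
        exact (IsLocalizedModule.mapEquiv S (LocalizedModule.mkLinearMap S (M ⧸ N))
            (LocalizedModule.mkLinearMap S (B ⧸ I)) (Localization S) e).trans
          (((IsLocalizedModule.iso S g).extendScalarsOfIsLocalization S L).trans
            (Submodule.quotEquivOfEq P _ hP))
      rw [Module.length_eq_one, mul_one]
    · intro q _ hq
      haveI : Subsingleton (LocalizedModule q.asIdeal.primeCompl (M ⧸ N)) := by
        obtain ⟨t, htI, htq⟩ := SetLike.not_le_iff_exists.1 fun hle =>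
          hq (MaximalSpectrum.ext (hI.eq_of_le q.isMaximal.ne_top hle).symm)
        refine LocalizedModule.subsingleton_iff.2 fun z => ⟨t, htq, e.injective ?_⟩
        obtain ⟨y, hy⟩ := Ideal.Quotient.mk_surjective (e z)
        rw [map_smul, map_zero, ← hy, ← Ideal.Quotient.mk_eq_mk]
        exact (Submodule.Quotient.mk_eq_zero I).2 (I.mul_mem_right y htI)
      rw [Module.length_eq_zero, mul_zero]
    · intro hn; exact absurd (Finset.mem_univ _) hn

theorem length_eq_sum [Fintype (MaximalSpectrum B)] {M : Type u} [AddCommGroup M] [Module B M]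
    [Module A M] [IsScalarTower A B M] (hM : IsFiniteLength B M) :
    Module.length A M =
      ∑ q : MaximalSpectrum B, (deg A q : ℕ∞) *
        Module.length (Loc q) (LocalizedModule q.asIdeal.primeCompl M) :=
  length_eq_sum' A hM

/-- The length of `B / bB` over `A`. -/
theorem length_quot_span [Fintype (MaximalSpectrum B)] (b : B)
    (hb : IsFiniteLength B (B ⧸ Ideal.span {b})) :
    Module.length A (B ⧸ Ideal.span {b}) =
      ∑ q : MaximalSpectrum B, (deg A q : ℕ∞) * Ring.ord (Loc q) (algebraMap B (Loc q) b) := by
  rw [length_eq_sum A hb]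
  refine Finset.sum_congr rfl fun q _ => congrArg _ ?_
  let S := q.asIdeal.primeCompl
  let f := Algebra.linearMap B (Loc q)
  let P : Submodule (Loc q) (Loc q) := (Ideal.span {b} : Submodule B B).localized' (Loc q) S f
  have hP : P = Ideal.span {algebraMap B (Loc q) b} :=
    (Ideal.localized'_eq_map (Loc q) S _).trans (by rw [Ideal.map_span, Set.image_singleton])
  let g := (Ideal.span {b} : Submodule B B).toLocalizedQuotient' (Loc q) S f
  let e := ((IsLocalizedModule.iso S g).extendScalarsOfIsLocalization S (Loc q)).trans
    (Submodule.quotEquivOfEq P _ hP)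
  exact e.length_eq

end Groth.Agent.TameLib
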