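import Mathlib
import Groth.Prelude.Def_Tame

/-!
# The local factor of the tame symbol does not depend on the chosen parameter
-/

set_option autoImplicit false
set_option linter.style.haveILetI false
universe u

open IsLocalRing nonZeroDivisors

noncomputable section

namespace Groth.Agent.TameLib

variable {C : Type u} [CommRing C] [IsLocalRing C]

/-- Reduction of units. -/
abbrev resU : Cˣ →* (ResidueField C)ˣ := Units.map (residue C : C →* ResidueField C)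

/-- `(-1)^{ef} u^f v^{-e}` in the residue field. -/
def zedU (u v : Cˣ) (e f : ℕ) : (ResidueField C)ˣ :=
  (-1) ^ (e * f) * resU u ^ f * (resU v ^ e)⁻¹

/-- `(-1)^{ef} u^f v^{-e}` in the residue field. -/
def zed (u v : Cˣ) (e f : ℕ) : ResidueField C := (zedU u v e f : ResidueField C)

theorem zed_eq (u v : Cˣ) (e f : ℕ) : zed u v e f =
    (-1 : ResidueField C) ^ (e * f) * residue C (u : C) ^ f * (residue C (v : C) ^ e)⁻¹ := by
  simp [zed, zedU]

theorem zed_ne_zero (u v : Cˣ) (e f : ℕ) : zed u v e f ≠ 0 := Units.ne_zero _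

theorem zed_zero (u v : Cˣ) : zed u v 0 0 = 1 := by simp [zed, zedU]

theorem neg_one_pow_sq (g : ℕ) {G : Type*} [Monoid G] [HasDistribNeg G] (k : ℕ) :
    (-1 : G) ^ (g * g * k) = (-1) ^ (g * k) := by
  rw [pow_mul _ (g * g) k, pow_mul _ g k]
  congr 1
  rcases Nat.even_or_odd g with hg | hg
  · rw [hg.neg_one_pow, (hg.mul_right g).neg_one_pow]
  · rw [hg.neg_one_pow, (hg.mul hg).neg_one_pow]

theorem zedU_gcd (u v : Cˣ) (g e₀ f₀ m : ℕ) :
    zedU u v (g * e₀) (g * f₀) ^ m =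
      (-1) ^ (e₀ * f₀ * (g * m)) * (resU u ^ f₀ * (resU v ^ e₀)⁻¹) ^ (g * m) := by
  rw [zedU, show g * e₀ * (g * f₀) = g * g * (e₀ * f₀) by ring, neg_one_pow_sq,
    pow_mul' (resU u), pow_mul' (resU v), ← inv_pow, mul_assoc, ← mul_pow, mul_pow, ← pow_mul,
    ← pow_mul, show g * (e₀ * f₀) * m = e₀ * f₀ * (g * m) by ring]

variable [IsNoetherianRing C] [Ring.KrullDimLE 1 C]

theorem ord_toNat_pow {π : C} (hπ : π ∈ C⁰) (u : Cˣ) (e : ℕ) :
    (Ring.ord C ((u : C) * π ^ e)).toNat = e * (Ring.ord C π).toNat := by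
  rw [Ring.ord_mul_of_isUnit_left u.isUnit, Ring.ord_pow hπ, nsmul_eq_mul, ENat.toNat_mul,
    ENat.toNat_natCast]

theorem exists_unit_of_fraction {π π' : C} (hπ : π ∈ C⁰) (hπ' : π' ∈ C⁰) {u u' v v' : Cˣ}
    {e f : ℕ} (hef : Nat.Coprime e f)
    (he : (u : C) * π ^ e = u' * π' ^ e) (hf : (v : C) * π ^ f = v' * π' ^ f) :
    ∃ ω : Cˣ, π' = ω * π ∧ u = u' * ω ^ e ∧ v = v' * ω ^ f := by
  let Q := FractionRing C
  let ι : Cˣ →* Qˣ := Units.map (algebraMap C Q : C →* Q)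
  let P : Qˣ := (IsLocalization.map_units Q (⟨π, hπ⟩ : C⁰)).unit
  let P' : Qˣ := (IsLocalization.map_units Q (⟨π', hπ'⟩ : C⁰)).unit
  have key : ∀ (a a' : Cˣ) (k : ℕ), (a : C) * π ^ k = a' * π' ^ k → (P' * P⁻¹) ^ k = ι (a * a'⁻¹) := by
    intro a a' k hk
    have h1 : ι a * P ^ k = ι a' * P' ^ k := Units.ext (by
      push_cast
      simp only [ι, P, P', Units.coe_map, MonoidHom.coe_coe, IsUnit.unit_spec, ← map_pow, ← map_mul]
      rw [hk])
    rw [mul_pow, map_mul, map_inv, inv_pow]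
    calc P' ^ k * (P ^ k)⁻¹ = (ι a')⁻¹ * (ι a' * P' ^ k) * (P ^ k)⁻¹ := by group
      _ = (ι a')⁻¹ * (ι a * P ^ k) * (P ^ k)⁻¹ := by rw [h1]
      _ = ι a * (ι a')⁻¹ := by rw [mul_assoc, mul_assoc, mul_inv_cancel, mul_one, mul_comm]
  obtain ⟨x, y, hxy⟩ : ∃ x y : ℤ, (e : ℤ) * x + (f : ℤ) * y = 1 :=
    ⟨e.gcdA f, e.gcdB f, by rw [← Nat.gcd_eq_gcd_ab, hef.gcd_eq_one, Nat.cast_one]⟩
  let ω : Cˣ := (u * u'⁻¹) ^ x * (v * v'⁻¹) ^ y
  have hω : P' * P⁻¹ = ι ω := by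
    rw [map_mul, map_zpow, map_zpow, ← key u u' e he, ← key v v' f hf, ← zpow_natCast (P' * P⁻¹) e,
      ← zpow_natCast (P' * P⁻¹) f, ← zpow_mul, ← zpow_mul, ← zpow_add, hxy, zpow_one]
  have hπω : π' = ω * π := by
    apply IsFractionRing.injective C Q
    have h2 : P' = ι ω * P := by rw [← hω, inv_mul_cancel_right]
    have h3 := congrArg (fun z : Qˣ => (z : Q)) h2
    simpa [ι, P, P'] using h3
  refine ⟨ω, hπω, Units.ext ?_, Units.ext ?_⟩
  · rw [Units.val_mul, Units.val_pow_eq_pow_val]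
    exact (mem_nonZeroDivisors_iff_right.1 (pow_mem hπ e) _ (by
      rw [sub_mul, sub_eq_zero, he, hπω, mul_pow, mul_assoc]) |> sub_eq_zero.1)
  · rw [Units.val_mul, Units.val_pow_eq_pow_val]
    exact (mem_nonZeroDivisors_iff_right.1 (pow_mem hπ f) _ (by
      rw [sub_mul, sub_eq_zero, hf, hπω, mul_pow, mul_assoc]) |> sub_eq_zero.1)

theorem ord_toNat_eq_zero_iff {π : C} (hπ : π ∈ C⁰) : (Ring.ord C π).toNat = 0 ↔ IsUnit π := by
  rw [ENat.toNat_eq_zero, or_iff_left (Ring.ord_ne_top hπ)]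
  refine ⟨fun h => ?_, Ring.ord_of_isUnit⟩
  rw [Ring.ord, Module.length_eq_zero_iff, Ideal.Quotient.subsingleton_iff, Ideal.span_singleton_eq_top] at h
  exact h

/-- The local factor is independent of the parameter. -/
theorem zed_pow_ord_eq {π π' : C} (hπ : π ∈ C⁰) (hπ' : π' ∈ C⁰) {u v u' v' : Cˣ} {e f e' f' : ℕ}
    (he : (u : C) * π ^ e = u' * π' ^ e') (hf : (v : C) * π ^ f = v' * π' ^ f') :
    zed u v e f ^ (Ring.ord C π).toNat = zed u' v' e' f' ^ (Ring.ord C π').toNat := by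
  have Ee : e * (Ring.ord C π).toNat = e' * (Ring.ord C π').toNat := by
    rw [← ord_toNat_pow hπ u e, ← ord_toNat_pow hπ' u' e', he]
  have Ef : f * (Ring.ord C π).toNat = f' * (Ring.ord C π').toNat := by
    rw [← ord_toNat_pow hπ v f, ← ord_toNat_pow hπ' v' f', hf]
  set m := (Ring.ord C π).toNat
  set m' := (Ring.ord C π').toNat
  simp only [zed, ← Units.val_pow_eq_pow_val]
  congr 1
  have trivial_side : ∀ (a b : Cˣ) (k l n : ℕ), k * n = 0 → l * n = 0 → zedU a b k l ^ n = 1 := by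
    intro a b k l n hk hl
    rcases Nat.eq_zero_or_pos n with rfl | hn
    · exact pow_zero _
    · obtain rfl : k = 0 := (Nat.mul_eq_zero.1 hk).resolve_right hn.ne'
      obtain rfl : l = 0 := (Nat.mul_eq_zero.1 hl).resolve_right hn.ne'
      simp [zedU]
  by_cases h0 : e * m = 0 ∧ f * m = 0
  · rw [trivial_side u v e f m h0.1 h0.2, trivial_side u' v' e' f' m' (Ee ▸ h0.1) (Ef ▸ h0.2)]
  have hgm : Nat.gcd e f * m = Nat.gcd e' f' * m' := by
    rw [← Nat.gcd_mul_right, ← Nat.gcd_mul_right, Ee, Ef]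
  have hpos : 0 < Nat.gcd e f * m := by
    rw [← Nat.gcd_mul_right]
    exact Nat.gcd_pos_iff.2 (by omega)
  have hg : 0 < Nat.gcd e f := Nat.pos_of_mul_pos_right hpos
  have hg' : 0 < Nat.gcd e' f' := Nat.pos_of_mul_pos_right (hgm ▸ hpos)
  obtain ⟨e₀, f₀, hco, hE, hF⟩ := Nat.exists_coprime e f
  obtain ⟨e₁, f₁, -, hE', hF'⟩ := Nat.exists_coprime e' f'
  generalize hgdef : Nat.gcd e f = g at *
  generalize hgdef' : Nat.gcd e' f' = g' at *
  have he1 : e₀ = e₁ := Nat.eq_of_mul_eq_mul_right hpos (by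
    conv_rhs => rw [hgm]
    rw [← Nat.mul_assoc, ← hE, ← Nat.mul_assoc, ← hE', Ee])
  have hf1 : f₀ = f₁ := Nat.eq_of_mul_eq_mul_right hpos (by
    conv_rhs => rw [hgm]
    rw [← Nat.mul_assoc, ← hF, ← Nat.mul_assoc, ← hF', Ef])
  subst he1 hf1
  rw [mul_comm] at hE hF hE' hF'
  subst hE hF
  rw [hE', hF'] at *
  obtain ⟨ω, -, hu, hv⟩ := exists_unit_of_fraction (pow_mem hπ g) (pow_mem hπ' g') hco
    (u := u) (u' := u') (v := v) (v' := v') (by rwa [← pow_mul, ← pow_mul]) (by rwa [← pow_mul, ← pow_mul])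
  rw [zedU_gcd, zedU_gcd, ← hgm]
  congr 2
  rw [hu, hv, map_mul, map_mul, map_pow, map_pow, mul_pow, mul_pow, ← pow_mul, ← pow_mul,
    mul_comm f₀ e₀, mul_inv, mul_mul_mul_comm, mul_inv_cancel, mul_one]

end Groth.Agent.TameLib
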