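import Mathlib
import Groth.Prelude.Def_CycAlg
import Groth.Agent.DomDVR.KrullAkizuki

/-!
# Normalisation of a one dimensional Noetherian local ring with a regular element in the maximal ideal

The integral closure of `R` in its total ring of fractions maps onto a finite product of semilocal
principal ideal domains, with nilpotent kernel.
-/

set_option autoImplicit false
set_option linter.style.haveILetI false
set_option linter.unusedSectionVars false
universe u

open IsLocalRing nonZeroDivisors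

noncomputable section

namespace Groth.Agent.TameLib

variable (R : Type u) [CommRing R]

/-- The minimal primes. -/
abbrev MinP : Type u := {p : Ideal R // p ∈ minimalPrimes R}

instance instIsPrimeMinP (p : MinP R) : p.1.IsPrime := p.2.1.1

/-- The residue domains' fraction fields. -/
abbrev KP (p : MinP R) : Type u := FractionRing (R ⧸ p.1)

/-- The total fraction ring. -/
abbrev TQ : Type u := FractionRing R

/-- The normalisations of the components. -/
abbrev OP (p : MinP R) : Type u := integralClosure (R ⧸ p.1) (KP R p)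

variable {R}

theorem notMem_of_mem_nonZeroDivisors {x : R} (hx : x ∈ R⁰) (p : MinP R) : x ∉ p.1 := fun h =>
  Set.disjoint_left.1 (Ideal.disjoint_nonZeroDivisors_of_mem_minimalPrimes p.2) h hx

/-- The projection to a component. -/
def ψ (p : MinP R) : TQ R →ₐ[R] KP R p :=
  IsLocalization.liftAlgHom (M := R⁰) (f := Algebra.ofId R (KP R p)) fun y => by
    rw [isUnit_iff_ne_zero, Algebra.ofId_apply, IsScalarTower.algebraMap_apply R (R ⧸ p.1) (KP R p)]
    exact fun h => notMem_of_mem_nonZeroDivisors y.2 p (Ideal.Quotient.eq_zero_iff_mem.1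
      (IsFractionRing.injective (R ⧸ p.1) (KP R p) (h.trans (map_zero _).symm)))

theorem ψ_algebraMap (p : MinP R) (r : R) :
    ψ p (algebraMap R (TQ R) r) = algebraMap (R ⧸ p.1) (KP R p) (Ideal.Quotient.mk p.1 r) :=
  ((ψ p).commutes r).trans (IsScalarTower.algebraMap_apply R (R ⧸ p.1) (KP R p) r)

theorem ψ_algebraMap_ne_zero (p : MinP R) {r : R} (hr : r ∉ p.1) :
    ψ p (algebraMap R (TQ R) r) ≠ 0 := by
  rw [ψ_algebraMap]
  exact fun h => hr (Ideal.Quotient.eq_zero_iff_mem.1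
    (IsFractionRing.injective (R ⧸ p.1) (KP R p) (h.trans (map_zero _).symm)))

theorem isNilpotent_of_ψ {x : TQ R} (h : ∀ p, ψ p x = 0) : IsNilpotent x := by
  obtain ⟨r, s, rfl⟩ := IsLocalization.exists_mk'_eq R⁰ x
  have hr : IsNilpotent r := by
    rw [← mem_nilradical, nilradical, Ideal.zero_eq_bot, ← Ideal.sInf_minimalPrimes, Submodule.mem_sInf]
    intro p hp
    by_contra hr
    refine ψ_algebraMap_ne_zero ⟨p, hp⟩ hr ?_
    rw [← IsLocalization.mk'_spec (TQ R) r s, map_mul, h, zero_mul]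
  obtain ⟨n, hn⟩ := hr
  exact ⟨n, by rw [← IsLocalization.mk'_pow, hn, IsLocalization.mk'_zero]⟩

theorem ψ_eq_zero_of_isNilpotent {x : TQ R} (h : IsNilpotent x) (p : MinP R) : ψ p x = 0 :=
  (h.map (ψ p)).eq_zero

variable [IsNoetherianRing R]

instance instFiniteMinP : Finite (MinP R) := (minimalPrimes.finite_of_isNoetherianRing R).to_subtype

/-- The standing hypothesis: a regular element in the maximal ideal of a one dimensional local ring. -/
structure Reg (R : Type u) [CommRing R] [IsLocalRing R] : Prop where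
  dim : Ring.KrullDimLE 1 R
  exists_reg : ∃ c ∈ maximalIdeal R, c ∈ R⁰

variable [IsLocalRing R]

theorem Reg.prime_eq (h : Reg R) {P : Ideal R} [P.IsPrime] (hP : P ∉ minimalPrimes R) :
    P = maximalIdeal R :=
  IsLocalRing.eq_maximalIdeal (((Ring.krullDimLE_one_iff.1 h.dim) P inferInstance).resolve_left hP)

theorem Reg.mem_nonZeroDivisors (h : Reg R) {x : R} (hx : ∀ p : MinP R, x ∉ p.1) : x ∈ R⁰ := by
  by_contra hne
  have hx' : x ∈ (R⁰ : Set R)ᶜ := hne
  rw [← biUnion_associatedPrimes_eq_compl_nonZeroDivisors] at hx'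
  obtain ⟨P, hP, hxP⟩ := Set.mem_iUnion₂.1 hx'
  haveI := hP.isPrime
  obtain ⟨c, hcm, hc⟩ := h.exists_reg
  by_cases hmin : P ∈ minimalPrimes R
  · exact hx ⟨P, hmin⟩ hxP
  · have hcP : c ∈ (P : Set R) := by rw [h.prime_eq hmin]; exact hcm
    have : c ∈ ((R⁰ : Set R))ᶜ := by
      rw [← biUnion_associatedPrimes_eq_compl_nonZeroDivisors]
      exact Set.mem_iUnion₂.2 ⟨P, hP, hcP⟩
    exact this hc

theorem Reg.isUnit_TQ (h : Reg R) {x : TQ R} (hx : ∀ p, ψ p x ≠ 0) : IsUnit x := by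
  obtain ⟨r, s, rfl⟩ := IsLocalization.exists_mk'_eq R⁰ x
  have hr : r ∈ R⁰ := h.mem_nonZeroDivisors fun p hr => hx p (by
    have h2 : ψ p (algebraMap R (TQ R) r) = 0 := by
      rw [ψ_algebraMap, Ideal.Quotient.eq_zero_iff_mem.2 hr, map_zero]
    rw [← IsLocalization.mk'_spec (TQ R) r s, map_mul, mul_eq_zero] at h2
    exact h2.resolve_right (ψ_algebraMap_ne_zero p (notMem_of_mem_nonZeroDivisors s.2 p)))
  exact (IsUnit.of_mul_eq_one _ (IsLocalization.mk'_mul_mk'_eq_one' (S := TQ R) r s hr) :)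

theorem Reg.ψ_surjective (h : Reg R) (y : ∀ p, KP R p) : ∃ x : TQ R, ∀ p, ψ p x = y p := by
  classical
  haveI := Fintype.ofFinite (MinP R)
  have he : ∀ p : MinP R, ∃ e : R, e ∉ p.1 ∧ ∀ q : MinP R, q ≠ p → e ∈ q.1 := fun p => by
    have : ∀ q : MinP R, q ≠ p → ∃ x ∈ q.1, x ∉ p.1 := fun q hq => by
      by_contra hcon
      push Not at hcon
      exact hq (Subtype.ext (le_antisymm (fun x hx => hcon x hx) (p.2.2 q.2.1 fun x hx => hcon x hx)))
    choose x hx hx' using this
    refine ⟨∏ q : {q : MinP R // q ≠ p}, x q.1 q.2, fun hmem => ?_, fun q hq =>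
      Ideal.mem_of_dvd _ (Finset.dvd_prod_of_mem (fun r : {q : MinP R // q ≠ p} => x r.1 r.2)
        (Finset.mem_univ ⟨q, hq⟩)) (hx q hq)⟩
    obtain ⟨q, -, hq⟩ := (inferInstance : p.1.IsPrime).prod_mem_iff.1 hmem
    exact hx' q.1 q.2 hq
  choose e he he' using he
  have hy : ∀ p : MinP R, ∃ r s : R, s ∉ p.1 ∧
      algebraMap (R ⧸ p.1) (KP R p) (Ideal.Quotient.mk _ r) =
        y p * algebraMap (R ⧸ p.1) (KP R p) (Ideal.Quotient.mk _ s) := fun p => by
    obtain ⟨⟨a, b⟩, hab⟩ := IsLocalization.surj (R ⧸ p.1)⁰ (y p)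
    obtain ⟨r, rfl⟩ := Ideal.Quotient.mk_surjective a
    obtain ⟨s, hs⟩ := Ideal.Quotient.mk_surjective (b : R ⧸ p.1)
    refine ⟨r, s, fun hm => nonZeroDivisors.ne_zero b.2 (hs ▸ Ideal.Quotient.eq_zero_iff_mem.2 hm), ?_⟩
    rw [hs]
    exact hab.symm
  choose r s hs hrs using hy
  have key : ∀ (f : MinP R → R) (p : MinP R),
      algebraMap (R ⧸ p.1) (KP R p) (Ideal.Quotient.mk _ (∑ q, e q * f q)) =
        algebraMap (R ⧸ p.1) (KP R p) (Ideal.Quotient.mk _ (e p * f p)) := fun f p => by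
    congr 1
    rw [map_sum, Finset.sum_eq_single p (fun q _ hq => Ideal.Quotient.eq_zero_iff_mem.2
      (p.1.mul_mem_right _ (he' q p (Ne.symm hq)))) (fun hn => absurd (Finset.mem_univ p) hn)]
  have hD : (∑ q, e q * s q) ∈ R⁰ := h.mem_nonZeroDivisors fun p hp => by
    have := (Ideal.Quotient.eq_zero_iff_mem.2 hp)
    have k := key s p
    rw [this, map_zero, eq_comm,
      map_eq_zero_iff _ (IsFractionRing.injective (R ⧸ p.1) (KP R p)),
      Ideal.Quotient.eq_zero_iff_mem] at k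
    exact ((inferInstance : p.1.IsPrime).mem_or_mem k).elim (he p) (hs p)
  refine ⟨IsLocalization.mk' (TQ R) (∑ q, e q * r q) (⟨_, hD⟩ : R⁰), fun p => ?_⟩
  have h2 := congrArg (ψ p) (IsLocalization.mk'_spec (TQ R) (∑ q, e q * r q) (⟨_, hD⟩ : R⁰))
  rw [map_mul, ψ_algebraMap, ψ_algebraMap, key r p, key s p, map_mul, map_mul, map_mul, map_mul,
    hrs p] at h2
  refine mul_right_cancel₀ ?_ (h2.trans (mul_left_comm _ _ _))
  exact mul_ne_zero (fun hz => he p (Ideal.Quotient.eq_zero_iff_mem.1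
      (IsFractionRing.injective (R ⧸ p.1) (KP R p) (hz.trans (map_zero _).symm))))
    (fun hz => hs p (Ideal.Quotient.eq_zero_iff_mem.1
      (IsFractionRing.injective (R ⧸ p.1) (KP R p) (hz.trans (map_zero _).symm))))

/-- Reduction of the integral closure to the components. -/
def σ : integralClosure R (TQ R) →+* ∀ p : MinP R, OP R p :=
  RingHom.pi fun p => ((ψ p).toRingHom.comp (integralClosure R (TQ R)).val.toRingHom).codRestrict
    (integralClosure (R ⧸ p.1) (KP R p)) fun x => (x.2.map (ψ p)).tower_top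

theorem σ_apply (x : integralClosure R (TQ R)) (p : MinP R) : (σ x p : KP R p) = ψ p x := rfl

theorem Reg.σ_surjective (h : Reg R) : Function.Surjective (σ (R := R)) := by
  intro y
  obtain ⟨z, hz⟩ := h.ψ_surjective fun p => (y p : KP R p)
  classical
  haveI := Fintype.ofFinite (MinP R)
  have hint : ∀ p : MinP R, IsIntegral R (y p : KP R p) := fun p =>
    isIntegral_trans (A := R ⧸ p.1) _ (y p).2
  choose f hf hf0 using hint
  have hn : IsNilpotent (Polynomial.aeval z (∏ p, f p)) := isNilpotent_of_ψ fun q => by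
    rw [← Polynomial.aeval_algHom_apply, hz, map_prod]
    exact Finset.prod_eq_zero (Finset.mem_univ q) (hf0 q)
  obtain ⟨N, hN⟩ := hn
  refine ⟨⟨z, (∏ p, f p) ^ N, (Polynomial.monic_prod_of_monic _ _ fun p _ => hf p).pow N, ?_⟩,
    funext fun p => Subtype.ext (hz p)⟩
  rw [← Polynomial.aeval_def, map_pow, hN]

theorem isNilpotent_of_σ {x : integralClosure R (TQ R)} (h : σ x = 0) : IsNilpotent (x : TQ R) :=
  isNilpotent_of_ψ fun p => congrArg Subtype.val (congrFun h p)

theorem Reg.isUnit_of_isUnit_σ (h : Reg R) {x : integralClosure R (TQ R)} (hx : IsUnit (σ x)) :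
    IsUnit x := by
  obtain ⟨t, ht⟩ := hx.exists_right_inv
  obtain ⟨t, rfl⟩ := h.σ_surjective t
  have hn : σ (x * t - 1) = 0 := by rw [map_sub, map_mul, ht, map_one, sub_self]
  obtain ⟨n, hn'⟩ := isNilpotent_of_σ hn
  have hu : IsUnit (x * t) := by
    simpa using (IsNilpotent.isUnit_add_left_of_commute (u := (1 : integralClosure R (TQ R)))
      (r := x * t - 1) ⟨n, Subtype.ext hn'⟩ isUnit_one (Commute.all _ _))
  exact isUnit_of_mul_isUnit_left hu

theorem Reg.dvd_of_σ_dvd (h : Reg R) {x y : integralClosure R (TQ R)} (hx : ∀ p, σ x p ≠ 0)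
    (hxy : σ x ∣ σ y) : x ∣ y := by
  obtain ⟨t, ht⟩ := hxy
  obtain ⟨t, rfl⟩ := h.σ_surjective t
  obtain ⟨u, hu⟩ := h.isUnit_TQ (x := (x : TQ R)) fun p hp => hx p (Subtype.ext hp)
  have hn : IsNilpotent ((y - x * t : integralClosure R (TQ R)) : TQ R) :=
    isNilpotent_of_σ (by rw [map_sub, map_mul, ht, sub_self])
  have hν : IsNilpotent (((y - x * t : integralClosure R (TQ R)) : TQ R) * (↑u⁻¹ : TQ R)) :=
    (Commute.all _ _).isNilpotent_mul_right hn
  obtain ⟨N, hN⟩ := hν
  refine ⟨t + ⟨_, Polynomial.X ^ N, Polynomial.monic_X_pow N, by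
    rw [← Polynomial.aeval_def, map_pow, Polynomial.aeval_X, hN]⟩, Subtype.ext ?_⟩
  push_cast
  rw [mul_add, ← hu, mul_comm ((y : TQ R) - u * t), ← mul_assoc, Units.mul_inv, one_mul,
    add_sub_cancel]

theorem Reg.associated_of_σ (h : Reg R) {x y : integralClosure R (TQ R)} (hx : ∀ p, σ x p ≠ 0)
    (hxy : Associated (σ x) (σ y)) : Associated x y := by
  obtain ⟨u, hu⟩ := hxy
  obtain ⟨t, ht⟩ := h.dvd_of_σ_dvd hx ⟨u, hu.symm⟩
  refine ⟨(h.isUnit_of_isUnit_σ (x := t) ?_).unit, by rw [IsUnit.unit_spec, ht]⟩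
  have : σ t = u := by
    rw [ht, map_mul] at hu
    exact (funext fun p => mul_left_cancel₀ (hx p) (congrFun hu p)).symm
  rw [this]
  exact u.isUnit

theorem Reg.isUnit_algebraMap (_h : Reg R) {r : R} (hr : r ∈ R⁰) : IsUnit (algebraMap R (TQ R) r) :=
  IsLocalization.map_units (TQ R) ⟨r, hr⟩

theorem σ_algebraMap_ne_zero {r : R} (hr : r ∈ R⁰) (p : MinP R) :
    σ (algebraMap R (integralClosure R (TQ R)) r) p ≠ 0 := fun h =>
  ψ_algebraMap_ne_zero p (notMem_of_mem_nonZeroDivisors hr p) (congrArg Subtype.val h)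

instance instKrullDimLEQuot [Ring.KrullDimLE 1 R] (p : MinP R) : Ring.KrullDimLE 1 (R ⧸ p.1) :=
  Ring.krullDimLE_iff.2 ((ringKrullDim_le_of_surjective (Ideal.Quotient.mk p.1)
    Ideal.Quotient.mk_surjective).trans (Ring.krullDimLE_iff.1 ‹_›))

theorem Reg.isDedekindDomain (h : Reg R) (p : MinP R) : IsDedekindDomain (OP R p) := by
  haveI := h.dim
  exact DomDVR.isDedekindDomain_integralClosure (R := R ⧸ p.1) (K := KP R p)

theorem Reg.finite_maximals (h : Reg R) (p : MinP R) : Finite (MaximalSpectrum (OP R p)) := by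
  haveI := h.dim
  obtain ⟨c, hcm, hc⟩ := h.exists_reg
  haveI : IsLocalRing (R ⧸ p.1) :=
    IsLocalRing.of_surjective' (Ideal.Quotient.mk p.1) Ideal.Quotient.mk_surjective
  let a : R ⧸ p.1 := Ideal.Quotient.mk p.1 c
  have ha : a ≠ 0 := fun h0 => notMem_of_mem_nonZeroDivisors hc p (Ideal.Quotient.eq_zero_iff_mem.1 h0)
  have ham : a ∈ maximalIdeal (R ⧸ p.1) := fun hu => by
    obtain ⟨t, ht⟩ := hu.exists_right_inv
    obtain ⟨t, rfl⟩ := Ideal.Quotient.mk_surjective t
    have h1 : c * t - 1 ∈ maximalIdeal R := IsLocalRing.le_maximalIdeal (p.2.1.1.ne_top)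
      (Ideal.Quotient.eq.1 (by rw [map_mul, map_one]; exact ht))
    have h2 := sub_mem (Ideal.mul_mem_right t _ hcm) h1
    rw [sub_sub_cancel] at h2
    exact (maximalIdeal.isMaximal R).ne_top ((Ideal.eq_top_iff_one _).2 h2)
  let I : Ideal (OP R p) := Ideal.span {algebraMap (R ⧸ p.1) (OP R p) a}
  have hfl := DomDVR.isFiniteLength_quotient (R := R ⧸ p.1) (K := KP R p)
    (integralClosure (R ⧸ p.1) (KP R p)) ha I (Ideal.mem_span_singleton_self _)
  haveI : IsArtinian (R ⧸ p.1) (OP R p ⧸ I) := (isFiniteLength_iff_isNoetherian_isArtinian.1 hfl).2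
  haveI : IsArtinianRing (OP R p ⧸ I) := isArtinian_of_tower (R ⧸ p.1) inferInstance
  have hmem : ∀ M : MaximalSpectrum (OP R p), I ≤ M.asIdeal := fun M => by
    rw [Ideal.span_singleton_le_iff_mem, ← Ideal.mem_comap]
    haveI := M.isMaximal
    rw [IsLocalRing.eq_maximalIdeal (Ideal.isMaximal_comap_of_isIntegral_of_isMaximal M.asIdeal)]
    exact ham
  refine Finite.of_injective (fun M : MaximalSpectrum (OP R p) =>
    (⟨M.asIdeal.map (Ideal.Quotient.mk I), (Ideal.map_eq_top_or_isMaximal_of_surjective _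
      Ideal.Quotient.mk_surjective M.isMaximal).resolve_left fun ht => M.isMaximal.ne_top (by
        have := congrArg (Ideal.comap (Ideal.Quotient.mk I)) ht
        rwa [Ideal.comap_map_mk (hmem M), Ideal.comap_top] at this)⟩ : MaximalSpectrum (OP R p ⧸ I))) ?_
  intro M N hMN
  have := congrArg (fun X : MaximalSpectrum (OP R p ⧸ I) => X.asIdeal.comap (Ideal.Quotient.mk I)) hMN
  simp only [Ideal.comap_map_mk (hmem M), Ideal.comap_map_mk (hmem N)] at this
  exact MaximalSpectrum.ext this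

theorem Reg.isPrincipalIdealRing (h : Reg R) (p : MinP R) : IsPrincipalIdealRing (OP R p) := by
  haveI := h.isDedekindDomain p
  haveI := h.finite_maximals p
  refine IsPrincipalIdealRing.of_finite_maximals ?_
  exact (Set.finite_range (fun M : MaximalSpectrum (OP R p) => M.asIdeal)).subset
    fun I hI => ⟨⟨I, hI⟩, rfl⟩

omit [IsNoetherianRing R] in
theorem Reg.exists_pow_le (h : Reg R) [IsNoetherianRing R] {d : R} (hd : d ∈ R⁰) :
    ∃ n : ℕ, maximalIdeal R ^ n ≤ Ideal.span {d} := by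
  refine Ideal.exists_pow_le_of_le_radical_of_fg ?_ (IsNoetherian.noetherian _)
  rw [Ideal.radical_eq_sInf]
  refine le_sInf ?_
  rintro P ⟨hdP, hP⟩
  haveI := hP
  rw [h.prime_eq fun hmin => notMem_of_mem_nonZeroDivisors hd ⟨P, hmin⟩
    (hdP (Ideal.mem_span_singleton_self d))]

theorem Reg.isFinExt_adjoin (h : Reg R) (S : Finset (TQ R)) (hS : ∀ x ∈ S, IsIntegral R x) :
    CycAlg.IsFinExt R (Algebra.adjoin R (S : Set (TQ R))) (maximalIdeal R) := by
  haveI hfin : Module.Finite R (Algebra.adjoin R (S : Set (TQ R))) :=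
    Module.Finite.iff_fg.2 (fg_adjoin_of_finite S.finite_toSet hS)
  refine ⟨fun a b hab => IsFractionRing.injective R (TQ R) (congrArg Subtype.val hab), hfin, ?_⟩
  obtain ⟨T, hT⟩ := Module.Finite.fg_top (R := R) (M := Algebra.adjoin R (S : Set (TQ R)))
  obtain ⟨d, hd⟩ := IsLocalization.exist_integer_multiples R⁰ T
    fun x : Algebra.adjoin R (S : Set (TQ R)) => (x : TQ R)
  obtain ⟨n, hn⟩ := h.exists_pow_le d.2
  refine ⟨n, fun r hr b => ?_⟩
  obtain ⟨t, rfl⟩ := Ideal.mem_span_singleton'.1 (hn hr)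
  have hdb : (d : R) • b ∈ (algebraMap R (Algebra.adjoin R (S : Set (TQ R)))).range := by
    have hb : b ∈ Submodule.span R (T : Set (Algebra.adjoin R (S : Set (TQ R)))) := hT ▸ trivial
    induction hb using Submodule.span_induction with
    | mem x hx =>
      obtain ⟨a, ha⟩ := hd x hx
      exact ⟨a, Subtype.ext ha⟩
    | zero => rw [smul_zero]; exact zero_mem _
    | add x y _ _ hx hy => rw [smul_add]; exact add_mem hx hy
    | smul a x _ hx =>
      obtain ⟨z, hz⟩ := hx
      exact ⟨a * z, by rw [smul_comm, ← hz, Algebra.smul_def, map_mul]⟩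
  obtain ⟨z, hz⟩ := hdb
  exact ⟨t * z, by rw [mul_smul, ← hz, Algebra.smul_def, map_mul]⟩

end Groth.Agent.TameLib
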