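import Groth.Agent.TameLib.Value

/-!
# The tame symbol is computed by any tame data
-/

set_option autoImplicit false
set_option linter.style.haveILetI false
set_option linter.unusedSectionVars false
universe u

open IsLocalRing nonZeroDivisors

noncomputable section

namespace Groth.Agent.TameLib

variable {A : Type u} [CommRing A] [IsLocalRing A] [IsNoetherianRing A] {a₁ a₂ : A}

theorem localFactor_eq (D : CycAlg.TameData A a₁ a₂) [Module.Finite A D.B] (q : MaximalSpectrum D.B) :
    D.localFactor q = normF A q (D.u₁ q) (D.u₂ q) (D.e₁ q) (D.e₂ q) ^ (Ring.ord (Loc q) (D.π q)).toNat := by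
  rw [normF, zed_eq]
  rfl

theorem value_eq_prod (D : CycAlg.TameData A a₁ a₂) [Module.Finite A D.B] [Fintype (MaximalSpectrum D.B)] :
    D.value = ∏ q, normF A q (D.u₁ q) (D.u₂ q) (D.e₁ q) (D.e₂ q) ^ (Ring.ord (Loc q) (D.π q)).toNat := by
  rw [CycAlg.TameData.value, finprod_eq_prod_of_fintype]
  exact Finset.prod_congr rfl fun q _ => localFactor_eq D q

/-- For units the value is `1`. -/
theorem value_eq_one_of_units (h₁ : IsUnit a₁) (h₂ : IsUnit a₂) (D : CycAlg.TameData A a₁ a₂) :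
    D.value = 1 := by
  haveI := D.isFinExt.2.1
  rw [CycAlg.TameData.value]
  refine finprod_eq_one_of_forall_eq_one fun q => ?_
  rw [localFactor_eq]
  by_cases hπ : IsUnit (D.π q)
  · rw [Ring.ord_of_isUnit hπ, ENat.toNat_zero, pow_zero]
  · have key : ∀ (a : A) (w : (Loc q)ˣ) (e : ℕ), IsUnit a →
        algebraMap A (Loc q) a = (w : Loc q) * D.π q ^ e → e = 0 := fun a w e ha h => by
      by_contra he
      have := ha.map (algebraMap A (Loc q))
      rw [h] at this
      exact hπ ((isUnit_pow_iff he).1 (isUnit_of_mul_isUnit_right this))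
    rw [key a₁ _ _ h₁ (D.fac₁ q), key a₂ _ _ h₂ (D.fac₂ q), normF_zero, one_pow]

variable {B : Type u} [CommRing B] [Algebra A B]

/-- An element regular in all localisations at maximal ideals is regular. -/
theorem regular_of_loc (c : A) (h : ∀ q : MaximalSpectrum B, algebraMap A (Loc q) c ∈ (Loc q)⁰) (x : B)
    (hx : algebraMap A B c * x = 0) : x = 0 := by
  refine eq_zero_of_localization x fun J hJ => ?_
  refine mem_nonZeroDivisors_iff_right.1 (h ⟨J, hJ⟩) _ ?_
  rw [IsScalarTower.algebraMap_apply A B, ← map_mul, mul_comm, hx, map_zero]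

/-- A finite extension on which `c` is regular maps to the total ring of fractions. -/
theorem exists_embedding {c : A} (hcm : c ∈ maximalIdeal A) (hc : c ∈ A⁰)
    (hB : CycAlg.IsFinExt A B (maximalIdeal A)) (hreg : ∀ x : B, algebraMap A B c * x = 0 → x = 0) :
    ∃ j : B →ₐ[A] TQ A, Function.Injective j := by
  obtain ⟨hinj, -, n, hn⟩ := hB
  have hr : ∀ b : B, ∃ a : A, algebraMap A B a = algebraMap A B (c ^ n) * b := fun b => by
    obtain ⟨a, ha⟩ := hn (c ^ n) (Ideal.pow_mem_pow hcm n) b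
    exact ⟨a, ha.trans (Algebra.smul_def _ _)⟩
  choose g hg using hr
  let s : A⁰ := ⟨c ^ n, pow_mem hc n⟩
  have hpow : ∀ (k : ℕ) (x : B), algebraMap A B (c ^ k) * x = 0 → x = 0 := by
    intro k
    induction k with
    | zero => simp
    | succ k ih =>
      intro x hx
      rw [pow_succ, map_mul, mul_assoc] at hx
      exact hreg x (ih _ hx)
  have gmul : ∀ x y, g x * g y = g (x * y) * c ^ n := fun x y => hinj (by
    rw [map_mul, map_mul, hg, hg, hg]; ring)
  have gadd : ∀ x y, g (x + y) = g x + g y := fun x y => hinj (by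
    rw [map_add, hg, hg, hg]; ring)
  have galg : ∀ a, g (algebraMap A B a) = a * c ^ n := fun a => hinj (by
    rw [map_mul, hg]; ring)
  let F : B →+* TQ A :=
    { toFun := fun b => IsLocalization.mk' (TQ A) (g b) s
      map_one' := by
        rw [IsLocalization.mk'_eq_iff_eq_mul, one_mul]
        exact congrArg _ (by rw [← map_one (algebraMap A B), galg, one_mul])
      map_mul' := fun x y => by
        rw [← IsLocalization.mk'_mul, IsLocalization.mk'_eq_iff_eq]
        congr 1
        show (c ^ n * c ^ n) * g (x * y) = c ^ n * (g x * g y)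
        rw [gmul]; ring
      map_zero' := by
        rw [show g 0 = 0 from hinj (by rw [hg, mul_zero, map_zero]), IsLocalization.mk'_zero]
      map_add' := fun x y => by
        rw [gadd, IsLocalization.mk'_eq_iff_eq_mul, map_add, add_mul, IsLocalization.mk'_spec,
          IsLocalization.mk'_spec] }
  refine ⟨{ F with commutes' := fun a => ?_ }, fun x y hxy => ?_⟩
  · show IsLocalization.mk' (TQ A) (g (algebraMap A B a)) s = _
    rw [galg, IsLocalization.mk'_eq_iff_eq_mul, map_mul]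
  · have h1 : IsLocalization.mk' (TQ A) (g x) s = IsLocalization.mk' (TQ A) (g y) s := hxy
    rw [IsLocalization.mk'_eq_iff_eq_mul, IsLocalization.mk'_spec] at h1
    have h2 := congrArg (algebraMap A B) (IsFractionRing.injective A (TQ A) h1)
    rw [hg, hg] at h2
    exact sub_eq_zero.1 (hpow n _ (by rw [mul_sub, h2, sub_self]))

/-- Tame data in the total fraction ring for a family of elements. -/
theorem exists_common (h : Reg A) {ι : Type*} [Finite ι] (a : ι → A) (ha : ∀ k, a k ∈ A⁰)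
    (S₀ : Finset (TQ A)) (hS₀ : ∀ x ∈ S₀, IsIntegral A x) :
    ∃ B' : Subalgebra A (TQ A), (S₀ : Set (TQ A)) ⊆ B' ∧
      CycAlg.IsFinExt A B' (maximalIdeal A) ∧ Fac (B' : Type u) a := by
  classical
  obtain ⟨S, hS, hfac⟩ := exists_fac h a ha
  refine ⟨Algebra.adjoin A ((S ∪ S₀ : Finset (TQ A)) : Set (TQ A)), ?_, h.isFinExt_adjoin _ ?_,
    hfac _ ?_⟩
  · exact (Finset.coe_subset.2 Finset.subset_union_right).trans Algebra.subset_adjoin
  · intro x hx
    exact (Finset.mem_union.1 hx).elim (hS x) (hS₀ x)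
  · exact (Finset.coe_subset.2 Finset.subset_union_left).trans Algebra.subset_adjoin

theorem regular_subalgebra {c : A} (hc : c ∈ A⁰) (B' : Subalgebra A (TQ A)) (x : B')
    (hx : algebraMap A B' c * x = 0) : x = 0 :=
  Subtype.ext ((IsLocalization.map_units (TQ A) (⟨c, hc⟩ : A⁰)).mul_right_eq_zero.1 (congrArg Subtype.val hx))

/-- Any two tame data have the same value. -/
theorem value_eq (h₁ : a₁ ∈ A⁰) (h₂ : a₂ ∈ A⁰) [Ring.KrullDimLE 1 A]
    (D D' : CycAlg.TameData A a₁ a₂) : D.value = D'.value := by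
  classical
  by_cases hu : IsUnit a₁ ∧ IsUnit a₂
  · rw [value_eq_one_of_units hu.1 hu.2, value_eq_one_of_units hu.1 hu.2]
  have hcm : a₁ * a₂ ∈ maximalIdeal A := fun hu' =>
    hu ⟨isUnit_of_mul_isUnit_left hu', isUnit_of_mul_isUnit_right hu'⟩
  have hc : a₁ * a₂ ∈ A⁰ := mul_mem h₁ h₂
  have hReg : Reg A := ⟨inferInstance, _, hcm, hc⟩
  have hloc : ∀ (E : CycAlg.TameData A a₁ a₂) (q : MaximalSpectrum E.B),
      algebraMap A (Loc q) (a₁ * a₂) ∈ (Loc q)⁰ := fun E q => by
    rw [map_mul, E.fac₁, E.fac₂]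
    exact mul_mem (mul_mem (E.u₁ q).isUnit.mem_nonZeroDivisors (pow_mem (E.π_mem q) _))
      (mul_mem (E.u₂ q).isUnit.mem_nonZeroDivisors (pow_mem (E.π_mem q) _))
  haveI := D.isFinExt.2.1
  haveI := D'.isFinExt.2.1
  obtain ⟨j, hj⟩ := exists_embedding hcm hc D.isFinExt (regular_of_loc _ (hloc D))
  obtain ⟨j', hj'⟩ := exists_embedding hcm hc D'.isFinExt (regular_of_loc _ (hloc D'))
  obtain ⟨G, hG⟩ := Module.Finite.fg_top (R := A) (M := D.B)
  obtain ⟨G', hG'⟩ := Module.Finite.fg_top (R := A) (M := D'.B)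
  haveI : Algebra.IsIntegral A D.B := Algebra.IsIntegral.of_finite A D.B
  haveI : Algebra.IsIntegral A D'.B := Algebra.IsIntegral.of_finite A D'.B
  obtain ⟨B', hsub, hB', hfac⟩ := exists_common hReg ![a₁, a₂] (Fin.forall_fin_two.2 ⟨h₁, h₂⟩)
    (G.image j ∪ G'.image j') (fun x hx => by
      rcases Finset.mem_union.1 hx with hx | hx <;> obtain ⟨y, -, rfl⟩ := Finset.mem_image.1 hx
      · exact (Algebra.IsIntegral.isIntegral y).map j
      · exact (Algebra.IsIntegral.isIntegral y).map j')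
  choose π hπ hv using hfac
  choose v e hve using hv
  haveI := hB'.2.1
  haveI := finite_maximalSpectrum A (B := (B' : Type u))
  haveI := Fintype.ofFinite (MaximalSpectrum B')
  obtain ⟨N, hN⟩ := hB'.2.2
  have main : ∀ (E : CycAlg.TameData A a₁ a₂) (k : E.B →ₐ[A] TQ A), Function.Injective k →
      (∃ H : Finset E.B, Submodule.span A (H : Set E.B) = ⊤ ∧ (H.image k : Set (TQ A)) ⊆ B') →
      E.value = ∏ n : MaximalSpectrum B',
        normF A n (v n 0) (v n 1) (e n 0) (e n 1) ^ (Ring.ord (Loc n) (π n)).toNat := by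
    rintro E k hk ⟨H, hH, hHsub⟩
    haveI := E.isFinExt.2.1
    haveI := finite_maximalSpectrum A (B := E.B)
    haveI := Fintype.ofFinite (MaximalSpectrum E.B)
    have hrange : ∀ x, k x ∈ B' := fun x => by
      have hx : x ∈ Submodule.span A (H : Set E.B) := hH ▸ trivial
      induction hx using Submodule.span_induction with
      | mem y hy => exact hHsub (Finset.mem_coe.2 (Finset.mem_image_of_mem _ hy))
      | zero => rw [map_zero]; exact zero_mem _
      | add y z _ _ hy hz => rw [map_add]; exact add_mem hy hz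
      | smul r y _ hy => rw [map_smul]; exact Subalgebra.smul_mem _ hy r
    let i : E.B →ₐ[A] B' := k.codRestrict B' hrange
    rw [value_eq_prod E]
    refine prod_eq_of_hom A i (fun x y hxy => hk (congrArg Subtype.val hxy)) (a₁ * a₂)
      (fun x hx => regular_subalgebra hc B' x hx) ⟨N, fun x => ?_⟩ E.π E.π_mem E.u₁ E.u₂ E.e₁ E.e₂
      E.fac₁ E.fac₂ π hπ (fun n => v n 0) (fun n => v n 1) (fun n => e n 0) (fun n => e n 1)
      (fun n => hve n 0) (fun n => hve n 1)
    obtain ⟨a, ha⟩ := hN ((a₁ * a₂) ^ N) (Ideal.pow_mem_pow hcm N) x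
    exact ⟨algebraMap A E.B a, (i.commutes a).trans (ha.trans (Algebra.smul_def _ _))⟩
  rw [main D j hj ⟨G, hG, fun x hx => hsub (Finset.coe_subset.2 Finset.subset_union_left hx)⟩,
    main D' j' hj' ⟨G', hG', fun x hx => hsub (Finset.coe_subset.2 Finset.subset_union_right hx)⟩]

/-- The tame symbol is the value of any tame data. -/
theorem tameSymbol_eq_value (h₁ : a₁ ∈ A⁰) (h₂ : a₂ ∈ A⁰) [Ring.KrullDimLE 1 A]
    (D : CycAlg.TameData A a₁ a₂) : CycAlg.tameSymbol A a₁ a₂ = D.value := by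
  rw [CycAlg.tameSymbol, dif_pos ⟨D⟩]
  exact value_eq h₁ h₂ _ _

theorem tameSymbol_eq_one_of_units (h₁ : IsUnit a₁) (h₂ : IsUnit a₂) :
    CycAlg.tameSymbol A a₁ a₂ = 1 := by
  rw [CycAlg.tameSymbol]
  split_ifs with h
  · exact value_eq_one_of_units h₁ h₂ _
  · rfl

/-- Compute a tame symbol from a family of factorisations. -/
theorem tameSymbol_eq_prod [Ring.KrullDimLE 1 A] {B : Type u} [CommRing B] [Algebra A B]
    [Fintype (MaximalSpectrum B)] (hB : CycAlg.IsFinExt A B (maximalIdeal A))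
    (π : ∀ q : MaximalSpectrum B, Loc q) (hπ : ∀ q, π q ∈ (Loc q)⁰)
    (h₁ : a₁ ∈ A⁰) (h₂ : a₂ ∈ A⁰)
    (u v : ∀ q : MaximalSpectrum B, (Loc q)ˣ) (e f : MaximalSpectrum B → ℕ)
    (f₁ : ∀ q, algebraMap A (Loc q) a₁ = (u q : Loc q) * π q ^ e q)
    (f₂ : ∀ q, algebraMap A (Loc q) a₂ = (v q : Loc q) * π q ^ f q) :
    haveI := hB.2.1
    CycAlg.tameSymbol A a₁ a₂ =
      ∏ q, normF A q (u q) (v q) (e q) (f q) ^ (Ring.ord (Loc q) (π q)).toNat := by
  haveI := hB.2.1
  rw [tameSymbol_eq_value h₁ h₂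
    { B := B, isFinExt := hB, isLocalHom := isLocalHom_loc A, π := π, π_mem := hπ, u₁ := u, u₂ := v,
      e₁ := e, e₂ := f, fac₁ := f₁, fac₂ := f₂ }]
  exact value_eq_prod (A := A) (a₁ := a₁) (a₂ := a₂)
    { B := B, isFinExt := hB, isLocalHom := isLocalHom_loc A, π := π, π_mem := hπ, u₁ := u, u₂ := v,
      e₁ := e, e₂ := f, fac₁ := f₁, fac₂ := f₂ }

end Groth.Agent.TameLib
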