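import Groth.Agent.TameLib.Len
import Groth.Agent.TameLib.Local
import Groth.Agent.TameLib.Exist

/-!
# Independence of the value of tame data of the choices made
-/

set_option autoImplicit false
set_option linter.style.haveILetI false
set_option linter.unusedSectionVars false
universe u

open IsLocalRing nonZeroDivisors

noncomputable section

namespace Groth.Agent.TameLib

variable (A : Type u) [CommRing A] [IsLocalRing A] {B : Type u} [CommRing B] [Algebra A B]
  [Module.Finite A B]

/-- The norm of a local factor down to the residue field. -/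
def normF (q : MaximalSpectrum B) (u v : (Loc q)ˣ) (e f : ℕ) : ResidueField A :=
  haveI := isLocalHom_loc A q
  Algebra.norm (ResidueField A) (zed u v e f)

theorem normF_zero (q : MaximalSpectrum B) (u v : (Loc q)ˣ) : normF A q u v 0 0 = 1 := by
  rw [normF, zed_zero, map_one]

variable [IsNoetherianRing A]

omit [IsNoetherianRing A] [IsLocalRing A] in
theorem isNoetherianRing_of_finite (A : Type u) [CommRing A] [IsNoetherianRing A] {B : Type u}
    [CommRing B] [Algebra A B] [Module.Finite A B] : IsNoetherianRing B :=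
  IsNoetherianRing.of_finite A B

omit [IsLocalRing A] [IsNoetherianRing A] in
theorem krullDimLE_of_finite [Ring.KrullDimLE 1 A] : Ring.KrullDimLE 1 B := by
  haveI : Algebra.IsIntegral A B := Algebra.IsIntegral.of_finite A B
  refine Ring.krullDimLE_iff.2 (le_trans ?_ (Ring.krullDimLE_iff.1 (inferInstance : Ring.KrullDimLE 1 A)))
  exact Order.krullDim_le_of_strictMono (fun P => ⟨P.asIdeal.comap (algebraMap A B), inferInstance⟩)
    fun P Q h => Ideal.IsIntegral.comap_lt_comap (R := A) (A := B) h

theorem krullDimLE_loc [Ring.KrullDimLE 1 A] (q : MaximalSpectrum B) : Ring.KrullDimLE 1 (Loc q) := by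
  haveI := krullDimLE_of_finite A (B := B)
  refine Ring.krullDimLE_iff.2 (le_trans ?_ (Ring.krullDimLE_iff.1 (inferInstance : Ring.KrullDimLE 1 B)))
  exact Order.krullDim_le_of_strictMono (PrimeSpectrum.comap (algebraMap B (Loc q)))
    fun P Q h => by
      have := IsLocalization.orderEmbedding q.asIdeal.primeCompl (Loc q)
      refine lt_of_le_of_ne (Ideal.comap_mono h.le) fun he => h.ne ?_
      apply PrimeSpectrum.ext
      have := congrArg PrimeSpectrum.asIdeal he
      simp only [PrimeSpectrum.comap_asIdeal] at this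
      rw [← IsLocalization.map_comap q.asIdeal.primeCompl (Loc q) P.asIdeal,
        ← IsLocalization.map_comap q.asIdeal.primeCompl (Loc q) Q.asIdeal]
      simp only [Ideal.under_def, this]

/-- An element equivalent to a given parameter at `q` and a unit at all other maximal ideals. -/
theorem exists_supported [Ring.KrullDimLE 1 A] (q : MaximalSpectrum B) {π : Loc q}
    (hπ : π ∈ (Loc q)⁰) :
    ∃ t : B, Associated π (algebraMap B (Loc q) t) ∧
      ∀ q' : MaximalSpectrum B, q' ≠ q → t ∉ q'.asIdeal := by
  classical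
  haveI := isNoetherianRing_of_finite A (B := B)
  haveI := krullDimLE_loc A q
  haveI := finite_maximalSpectrum A (B := B)
  haveI : IsNoetherianRing (Loc q) := IsLocalization.isNoetherianRing q.asIdeal.primeCompl _ inferInstance
  haveI : IsArtinianRing (Loc q ⧸ Ideal.span {π}) := by
    have := isFiniteLength_quotient_span_singleton (R := Loc q) hπ
    rw [isFiniteLength_iff_isNoetherian_isArtinian] at this
    exact isArtinian_of_tower (Loc q) this.2
  obtain ⟨N, hN⟩ := exists_maximalIdeal_pow_le_of_isArtinianRing_quotient (Ideal.span {π})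
  obtain ⟨⟨b, s⟩, hbs⟩ := IsLocalization.surj q.asIdeal.primeCompl π
  have hco : Pairwise (Function.onFun IsCoprime fun q' : MaximalSpectrum B =>
      if q' = q then q.asIdeal ^ (N + 1) else q'.asIdeal) := by
    intro a a' hne
    simp only [Function.onFun]
    have hc : IsCoprime a.asIdeal a'.asIdeal := Ideal.isCoprime_iff_sup_eq.2
      (a.isMaximal.coprime_of_ne a'.isMaximal fun he => hne (MaximalSpectrum.ext he))
    split_ifs with h1 h2 h2
    · exact absurd (h1.trans h2.symm) hne
    · subst h1; exact hc.pow_left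
    · subst h2; exact hc.pow_right
    · exact hc
  obtain ⟨t, ht⟩ := Ideal.exists_forall_sub_mem_ideal hco fun q' => if q' = q then b else 1
  refine ⟨t, ?_, fun q' hq' htq => ?_⟩
  · have h1 := ht q
    simp only [if_pos rfl] at h1
    have h2 : algebraMap B (Loc q) (t - b) ∈ Ideal.span {π} * maximalIdeal (Loc q) := by
      have h3 : algebraMap B (Loc q) (t - b) ∈ (maximalIdeal (Loc q)) ^ (N + 1) := by
        rw [← Localization.AtPrime.map_eq_maximalIdeal, ← Ideal.map_pow]
        exact Ideal.mem_map_of_mem _ h1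
      rw [pow_succ] at h3
      exact Ideal.mul_mono_left hN h3
    obtain ⟨w, hw, hwe⟩ := Ideal.mem_span_singleton_mul.1 h2
    have hu : IsUnit (algebraMap B (Loc q) s + w) := by
      rw [← IsLocalRing.notMem_maximalIdeal]
      exact fun hm => (IsLocalRing.notMem_maximalIdeal.2 (IsLocalization.map_units (Loc q) s))
        (by simpa using sub_mem hm hw)
    refine ⟨hu.unit, ?_⟩
    rw [IsUnit.unit_spec, mul_add, hwe, hbs, map_sub, add_sub_cancel]
  · have h1 := ht q'
    simp only [if_neg hq'] at h1
    refine q'.isMaximal.ne_top ((Ideal.eq_top_iff_one _).2 ?_)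
    have := sub_mem htq h1
    rwa [sub_sub_cancel] at this

theorem mem_nonZeroDivisors_of_supported (q : MaximalSpectrum B) {t : B}
    (hq : algebraMap B (Loc q) t ∈ (Loc q)⁰) (ho : ∀ q' : MaximalSpectrum B, q' ≠ q → t ∉ q'.asIdeal) :
    t ∈ B⁰ := by
  refine mem_nonZeroDivisors_iff_right.2 fun x hx => ?_
  refine eq_zero_of_localization x fun J hJ => ?_
  let q' : MaximalSpectrum B := ⟨J, hJ⟩
  have h1 : algebraMap B (Loc q') x * algebraMap B (Loc q') t = 0 := by rw [← map_mul, hx, map_zero]
  by_cases hne : q' = q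
  · subst hne
    exact mem_nonZeroDivisors_iff_right.1 hq _ h1
  · exact (IsUnit.mul_left_eq_zero (IsLocalization.map_units (Loc q') (⟨t, ho q' hne⟩ : q'.asIdeal.primeCompl))).1 h1

variable {B' : Type u} [CommRing B'] [Algebra A B'] [Module.Finite A B'] (i : B →ₐ[A] B')

omit [IsNoetherianRing A] in
theorem isMaximal_comap (n : MaximalSpectrum B') : (n.asIdeal.comap i.toRingHom).IsMaximal := by
  letI := i.toRingHom.toAlgebra
  haveI : IsScalarTower A B B' := IsScalarTower.of_algebraMap_eq fun a => (i.commutes a).symm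
  haveI : Algebra.IsIntegral A B' := Algebra.IsIntegral.of_finite A B'
  haveI : Algebra.IsIntegral B B' := Algebra.IsIntegral.tower_top A
  haveI := n.isMaximal
  exact Ideal.isMaximal_comap_of_isIntegral_of_isMaximal (R := B) n.asIdeal

/-- The maximal ideal of `B` below a maximal ideal of `B'`. -/
def below (n : MaximalSpectrum B') : MaximalSpectrum B := ⟨_, isMaximal_comap A i n⟩

/-- The map of local rings. -/
def locMap (n : MaximalSpectrum B') : Loc (below A i n) →+* Loc n :=
  Localization.localRingHom (below A i n).asIdeal n.asIdeal i.toRingHom rfl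

omit [IsNoetherianRing A] in
theorem locMap_apply (n : MaximalSpectrum B') (b : B) :
    locMap A i n (algebraMap B _ b) = algebraMap B' (Loc n) (i b) :=
  Localization.localRingHom_to_map _ _ _ rfl b

omit [IsNoetherianRing A] in
theorem locMap_algebraMap (n : MaximalSpectrum B') (a : A) :
    locMap A i n (algebraMap A _ a) = algebraMap A (Loc n) a := by
  rw [IsScalarTower.algebraMap_apply A B, locMap_apply, i.commutes,
    ← IsScalarTower.algebraMap_apply A B']

instance isLocalHom_locMap (n : MaximalSpectrum B') : IsLocalHom (locMap A i n) :=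
  Localization.isLocalHom_localRingHom _ _ _ _

/-- Norms of local factors under extension. -/
theorem exists_normF_locMap (n : MaximalSpectrum B') :
    ∃ r : ℕ, deg A n = deg A (below A i n) * r ∧ ∀ (u v : (Loc (below A i n))ˣ) (e f : ℕ),
      normF A n (Units.map (locMap A i n) u) (Units.map (locMap A i n) v) e f =
        normF A (below A i n) u v e f ^ r := by
  haveI := isLocalHom_loc A n
  haveI := isLocalHom_loc A (below A i n)
  let κ := ResidueField A
  let F := ResidueField (Loc (below A i n))
  let E := ResidueField (Loc n)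
  letI alg : Algebra F E := (ResidueField.map (locMap A i n)).toAlgebra
  haveI : IsScalarTower κ F E := IsScalarTower.of_algebraMap_eq fun x => by
    obtain ⟨a, rfl⟩ := residue_surjective x
    show _ = ResidueField.map (locMap A i n) (algebraMap κ F (residue A a))
    rw [ResidueField.algebraMap_residue, ResidueField.algebraMap_residue, ResidueField.map_residue,
      locMap_algebraMap]
  haveI : Module.Finite κ F := finite_residueField A (below A i n)
  haveI : Module.Finite κ E := finite_residueField A n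
  haveI : Module.Finite F E := Module.Finite.of_restrictScalars_finite κ F E
  refine ⟨Module.finrank F E, (Module.finrank_mul_finrank κ F E).symm, fun u v e f => ?_⟩
  have hz : zed (Units.map (locMap A i n : _ →* _) u) (Units.map (locMap A i n : _ →* _) v) e f =
      algebraMap F E (zed u v e f) := by
    rw [zed_eq, zed_eq, RingHom.algebraMap_toAlgebra, map_mul, map_mul, map_pow, map_pow, map_inv₀,
      map_pow, map_neg, map_one, ResidueField.map_residue, ResidueField.map_residue]
    rfl
  rw [normF, normF, hz]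
  rw [← Algebra.norm_norm (S := F), Algebra.norm_algebraMap, map_pow]

theorem regular_pow {c : A} (hc : ∀ x : B', algebraMap A B' c * x = 0 → x = 0) :
    ∀ (k : ℕ) (x : B'), algebraMap A B' (c ^ k) * x = 0 → x = 0 := by
  intro k
  induction k with
  | zero => simp
  | succ k ih =>
    intro x hx
    rw [pow_succ, map_mul, mul_assoc] at hx
    exact hc x (ih _ hx)

/-- A finite length cokernel does not change the colength of a regular element. -/
theorem length_span_eq_of_hom [Ring.KrullDimLE 1 A] [Fintype (MaximalSpectrum B')] (hi : Function.Injective i) (c : A)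
    (hc : ∀ x : B', algebraMap A B' c * x = 0 → x = 0)
    {N : ℕ} (hN : ∀ x : B', algebraMap A B' (c ^ N) * x ∈ Set.range i)
    {t : B} (ht : t ∈ B⁰) :
    i t ∈ B'⁰ ∧ Module.length A (B ⧸ Ideal.span {t}) = Module.length A (B' ⧸ Ideal.span {i t}) := by
  haveI := isNoetherianRing_of_finite A (B := B')
  haveI := krullDimLE_of_finite A (B := B')
  have hcN := regular_pow A hc
  have hit : i t ∈ B'⁰ := mem_nonZeroDivisors_iff_right.2 fun x hx => by
    obtain ⟨y, hy⟩ := hN x
    have h0 : i (y * t) = 0 := by rw [map_mul, hy, mul_assoc, hx, mul_zero]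
    have : y = 0 := mem_nonZeroDivisors_iff_right.1 ht y (hi (h0.trans (map_zero i).symm))
    exact hcN N x (by rw [← hy, this, map_zero])
  refine ⟨hit, ?_⟩
  let I : Submodule A B' := LinearMap.range i.toLinearMap
  let μ : B' →ₗ[A] B' := LinearMap.mulLeft A (i t)
  let T : Submodule A B' := I.map μ
  have hμ : Function.Injective μ := fun x y hxy => sub_eq_zero.1
    (mem_nonZeroDivisors_iff_right.1 hit _ (by
      rw [mul_comm, mul_sub]; exact sub_eq_zero.2 hxy))
  have hfin : Module.length A (B' ⧸ I) ≠ ⊤ := by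
    have hcmem : algebraMap A B' (c ^ N) ∈ B'⁰ :=
      mem_nonZeroDivisors_iff_right.2 fun x hx => hcN N x (by rw [mul_comm]; exact hx)
    have fc := isFiniteLength_quotient_span_singleton (R := B') hcmem
    have Lc := length_quot_span A (algebraMap A B' (c ^ N)) fc
    have hne : Module.length A (B' ⧸ Ideal.span {algebraMap A B' (c ^ N)}) ≠ ⊤ := by
      rw [Lc]
      refine WithTop.sum_ne_top.2 fun n _ => WithTop.mul_ne_top (ENat.natCast_ne_top _) ?_
      haveI := krullDimLE_loc A n
      haveI : IsNoetherianRing (Loc n) := IsLocalization.isNoetherianRing n.asIdeal.primeCompl _ inferInstance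
      exact Ring.ord_ne_top (IsLocalization.map_nonZeroDivisors_le n.asIdeal.primeCompl (Loc n)
        ⟨_, hcmem, rfl⟩)
    refine ne_top_of_le_ne_top hne (Module.length_le_of_surjective
      (((Ideal.span {algebraMap A B' (c ^ N)} : Ideal B').restrictScalars A).liftQ I.mkQ ?_) ?_)
    · intro x hx
      obtain ⟨y, rfl⟩ := Ideal.mem_span_singleton'.1 hx
      rw [LinearMap.mem_ker, Submodule.mkQ_apply, Submodule.Quotient.mk_eq_zero, mul_comm]
      exact hN y
    · rintro ⟨x⟩; exact ⟨Submodule.Quotient.mk x, rfl⟩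
  let α : (B ⧸ Ideal.span {t}) →ₗ[A] B' ⧸ T :=
    ((Ideal.span {t} : Ideal B).restrictScalars A).liftQ (T.mkQ ∘ₗ i.toLinearMap) (fun x hx => by
      obtain ⟨y, rfl⟩ := Ideal.mem_span_singleton'.1 hx
      rw [LinearMap.mem_ker, LinearMap.comp_apply, Submodule.mkQ_apply, Submodule.Quotient.mk_eq_zero]
      exact ⟨i y, ⟨y, rfl⟩, by simp [μ, mul_comm]⟩)
  have hα : Function.Injective α := (injective_iff_map_eq_zero _).2 fun z hz => by
    obtain ⟨x, rfl⟩ := Submodule.Quotient.mk_surjective _ z
    obtain ⟨_, ⟨y, rfl⟩, hy⟩ := (Submodule.Quotient.mk_eq_zero T).1 hz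
    refine (Submodule.Quotient.mk_eq_zero _).2 (Ideal.mem_span_singleton'.2 ⟨y, hi ?_⟩)
    rw [map_mul, mul_comm]
    exact hy
  let β : (B' ⧸ T) →ₗ[A] B' ⧸ I := Submodule.factor (by
    rintro _ ⟨_, ⟨y, rfl⟩, rfl⟩; exact ⟨t * y, by simp [μ]⟩)
  have hαβ : Function.Exact α β := fun z => by
    obtain ⟨x, rfl⟩ := Submodule.Quotient.mk_surjective _ z
    constructor
    · intro hz
      obtain ⟨y, hy⟩ := (Submodule.Quotient.mk_eq_zero I).1 hz
      exact ⟨Submodule.Quotient.mk y, congrArg Submodule.Quotient.mk hy⟩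
    · rintro ⟨w, hw⟩
      obtain ⟨y, rfl⟩ := Submodule.Quotient.mk_surjective _ w
      rw [← hw]
      exact (Submodule.Quotient.mk_eq_zero I).2 ⟨y, rfl⟩
  let γ : (B' ⧸ I) →ₗ[A] B' ⧸ T := I.mapQ T μ (Submodule.le_comap_map μ I)
  have hγ : Function.Injective γ := (injective_iff_map_eq_zero _).2 fun z hz => by
    obtain ⟨x, rfl⟩ := Submodule.Quotient.mk_surjective _ z
    obtain ⟨y, hy, hxy⟩ := (Submodule.Quotient.mk_eq_zero T).1 hz
    exact (Submodule.Quotient.mk_eq_zero I).2 (hμ hxy ▸ hy)
  let δ : (B' ⧸ T) →ₗ[A] B' ⧸ (Ideal.span {i t} : Ideal B') :=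
    T.liftQ ((Ideal.span {i t} : Ideal B').mkQ.restrictScalars A) (by
      rintro _ ⟨y, -, rfl⟩
      exact (Submodule.Quotient.mk_eq_zero _).2 (Ideal.mul_mem_right y _ (Ideal.mem_span_singleton_self _)))
  have hγδ : Function.Exact γ δ := fun z => by
    obtain ⟨x, rfl⟩ := Submodule.Quotient.mk_surjective _ z
    constructor
    · intro hz
      obtain ⟨y, hy⟩ := Ideal.mem_span_singleton'.1 ((Submodule.Quotient.mk_eq_zero _).1 hz)
      exact ⟨Submodule.Quotient.mk y, congrArg Submodule.Quotient.mk (by simp [μ, ← hy, mul_comm])⟩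
    · rintro ⟨w, hw⟩
      obtain ⟨y, rfl⟩ := Submodule.Quotient.mk_surjective _ w
      rw [← hw]
      exact (Submodule.Quotient.mk_eq_zero _).2 (Ideal.mul_mem_right y _ (Ideal.mem_span_singleton_self _))
  have E1 := Module.length_eq_add_of_exact α β hα
    (fun z => by obtain ⟨x, rfl⟩ := Submodule.Quotient.mk_surjective _ z; exact ⟨Submodule.Quotient.mk x, rfl⟩) hαβ
  have E2 := Module.length_eq_add_of_exact γ δ hγ
    (fun z => by obtain ⟨x, rfl⟩ := Submodule.Quotient.mk_surjective _ z; exact ⟨Submodule.Quotient.mk x, rfl⟩) hγδ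
  rw [E1, add_comm] at E2
  exact (WithTop.add_left_inj hfin).1 E2

theorem pow_eq_of_le {G : Type*} [Monoid G] (z : G) {a b : ℕ} (h : a = b) : z ^ a = z ^ b := by rw [h]

/-- Tame data give the same value in a bigger ring. -/
theorem prod_eq_of_hom [Ring.KrullDimLE 1 A] [Fintype (MaximalSpectrum B)] [Fintype (MaximalSpectrum B')]
    (hi : Function.Injective i) (c : A) (hc : ∀ x : B', algebraMap A B' c * x = 0 → x = 0)
    (hcoker : ∃ N : ℕ, ∀ x : B', algebraMap A B' (c ^ N) * x ∈ Set.range i)
    {a₁ a₂ : A}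
    (π : ∀ q : MaximalSpectrum B, Loc q) (hπ : ∀ q, π q ∈ (Loc q)⁰)
    (u v : ∀ q : MaximalSpectrum B, (Loc q)ˣ) (e f : MaximalSpectrum B → ℕ)
    (h₁ : ∀ q, algebraMap A (Loc q) a₁ = (u q : Loc q) * π q ^ e q)
    (h₂ : ∀ q, algebraMap A (Loc q) a₂ = (v q : Loc q) * π q ^ f q)
    (π' : ∀ n : MaximalSpectrum B', Loc n) (hπ' : ∀ n, π' n ∈ (Loc n)⁰)
    (u' v' : ∀ n : MaximalSpectrum B', (Loc n)ˣ) (e' f' : MaximalSpectrum B' → ℕ)
    (h₁' : ∀ n, algebraMap A (Loc n) a₁ = (u' n : Loc n) * π' n ^ e' n)
    (h₂' : ∀ n, algebraMap A (Loc n) a₂ = (v' n : Loc n) * π' n ^ f' n) :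
    ∏ q, normF A q (u q) (v q) (e q) (f q) ^ (Ring.ord (Loc q) (π q)).toNat =
      ∏ n, normF A n (u' n) (v' n) (e' n) (f' n) ^ (Ring.ord (Loc n) (π' n)).toNat := by
  classical
  haveI := isNoetherianRing_of_finite A (B := B)
  haveI := isNoetherianRing_of_finite A (B := B')
  haveI := krullDimLE_of_finite A (B := B)
  haveI := krullDimLE_of_finite A (B := B')
  rw [← Finset.prod_fiberwise Finset.univ (below A i) (fun n => normF A n (u' n) (v' n) (e' n) (f' n) ^
    (Ring.ord (Loc n) (π' n)).toNat)]
  refine Finset.prod_congr rfl fun q _ => ?_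
  obtain ⟨t, htπ, hto⟩ := exists_supported A q (hπ q)
  have htq : algebraMap B (Loc q) t ∈ (Loc q)⁰ := by
    obtain ⟨w, hw⟩ := htπ
    rw [← hw]
    exact mul_mem (hπ q) w.isUnit.mem_nonZeroDivisors
  have ht : t ∈ B⁰ := mem_nonZeroDivisors_of_supported q htq hto
  obtain ⟨N, hN⟩ := hcoker
  obtain ⟨hit, hLeq⟩ := length_span_eq_of_hom A i hi c hc hN ht
  -- lengths
  have fB := isFiniteLength_quotient_span_singleton (R := B) ht
  have fB' := isFiniteLength_quotient_span_singleton (R := B') hit
  have L1 := length_quot_span A t fB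
  have L2 := length_quot_span A (i t) fB'
  rw [L1, L2, Finset.sum_eq_single q] at hLeq
  rotate_left
  · intro q' _ hq'
    rw [Ring.ord_of_isUnit (IsLocalization.map_units (Loc q') (⟨t, hto q' hq'⟩ : q'.asIdeal.primeCompl)),
      mul_zero]
  · intro h; exact absurd (Finset.mem_univ q) h
  rw [← Finset.sum_filter_add_sum_filter_not Finset.univ (fun n => below A i n = q), Finset.sum_eq_zero
    (s := Finset.univ.filter fun n => ¬ below A i n = q), add_zero] at hLeq
  rotate_left
  · intro n hn
    rw [Ring.ord_of_isUnit (IsLocalization.map_units (Loc n)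
      (⟨i t, hto _ (Finset.mem_filter.1 hn).2⟩ : n.asIdeal.primeCompl)), mul_zero]
  have hordq : Ring.ord (Loc q) (algebraMap B (Loc q) t) = Ring.ord (Loc q) (π q) :=
    (Ring.ord_eq_of_associated htπ).symm
  rw [hordq] at hLeq
  -- local factors above `q`
  have hloc : ∀ n ∈ Finset.univ.filter (fun n => below A i n = q), ∃ r : ℕ,
      deg A n = deg A q * r ∧ Ring.ord (Loc n) (algebraMap B' (Loc n) (i t)) ≠ ⊤ ∧
      normF A n (u' n) (v' n) (e' n) (f' n) ^ (Ring.ord (Loc n) (π' n)).toNat =
        normF A q (u q) (v q) (e q) (f q) ^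
          (r * (Ring.ord (Loc n) (algebraMap B' (Loc n) (i t))).toNat) := by
    intro n hn
    obtain rfl := (Finset.mem_filter.1 hn).2
    obtain ⟨r, hr, hN⟩ := exists_normF_locMap A i n
    haveI := krullDimLE_loc A n
    haveI : IsNoetherianRing (Loc n) := IsLocalization.isNoetherianRing n.asIdeal.primeCompl _ inferInstance
    have hitn : algebraMap B' (Loc n) (i t) ∈ (Loc n)⁰ :=
      IsLocalization.map_nonZeroDivisors_le n.asIdeal.primeCompl (Loc n) ⟨_, hit, rfl⟩
    have hass : Associated (locMap A i n (π (below A i n))) (algebraMap B' (Loc n) (i t)) := by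
      rw [← locMap_apply]; exact htπ.map (locMap A i n).toMonoidHom
    have hπn : locMap A i n (π (below A i n)) ∈ (Loc n)⁰ := by
      obtain ⟨w, hw⟩ := hass.symm
      rw [← hw]
      exact mul_mem hitn w.isUnit.mem_nonZeroDivisors
    refine ⟨r, hr, Ring.ord_ne_top hitn, ?_⟩
    have hz := zed_pow_ord_eq (hπ' n) hπn (u := u' n) (v := v' n) (e := e' n) (f := f' n)
      (u' := Units.map (locMap A i n) (u (below A i n))) (v' := Units.map (locMap A i n) (v (below A i n)))
      (e' := e (below A i n)) (f' := f (below A i n))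
      (by rw [← h₁', ← locMap_algebraMap A i n, h₁, map_mul, map_pow]; rfl)
      (by rw [← h₂', ← locMap_algebraMap A i n, h₂, map_mul, map_pow]; rfl)
    haveI := isLocalHom_loc A n
    rw [normF, ← map_pow, hz, map_pow, Ring.ord_eq_of_associated hass, ← normF, hN, ← pow_mul]
  choose r hr hrt hval using hloc
  rw [← Finset.prod_attach, Finset.prod_congr rfl (fun n _ => hval n.1 n.2), Finset.prod_pow_eq_pow_sum]
  refine pow_eq_of_le _ (Nat.eq_of_mul_eq_mul_left (deg_pos A q) ?_)
  have := congrArg ENat.toNat hLeq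
  rw [ENat.toNat_mul, ENat.toNat_natCast, ENat.toNat_sum, ← Finset.sum_attach] at this
  · rw [this, Finset.mul_sum]
    refine Finset.sum_congr rfl fun n _ => ?_
    rw [ENat.toNat_mul, ENat.toNat_natCast, hr n.1 n.2, mul_assoc]
  · intro n hn
    exact WithTop.mul_ne_top (ENat.natCast_ne_top _) (hrt n hn)

end Groth.Agent.TameLib
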